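import Cfsg.Agent.FGS75.SelfNorm.Order

/-!
In a simple group of order `(p+1) p (p+2)`, `p` a Mersenne prime, with abelian centralizers and
only real elements, the non-abelian subgroups are self-normalizing.
-/

set_option autoImplicit false
set_option maxHeartbeats 1000000

namespace Cfsg.Agent.FGS75.SelfNorm

variable {G : Type*} [Group G] [Finite G]

/-- The data of the reverse direction. -/
structure Rev (G : Type*) [Group G] (p : ℕ) : Prop where
  prime : p.Prime
  pow : ∃ n, 2 ≤ n ∧ p + 1 = 2 ^ n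
  card : Nat.card G = (p + 1) * p * (p + 2)
  ca : ∀ x a b : G, x ≠ 1 → a * x = x * a → b * x = x * b → a * b = b * a
  real : ∀ x : G, ∃ g, g * x * g⁻¹ = x⁻¹

theorem conj_pow_inv {g x : G} (h : g * x * g⁻¹ = x⁻¹) :
    ∀ i : ℕ, (g ^ (2 * i + 1)) * x * (g ^ (2 * i + 1))⁻¹ = x⁻¹ := by
  have h' : g * x⁻¹ * g⁻¹ = x := by rw [← conj_inv, h, inv_inv]
  intro i
  induction i with
  | zero => simpa using h
  | succ i ih =>
    rw [show 2 * (i + 1) + 1 = 2 + (2 * i + 1) by ring, _root_.pow_add]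
    calc g ^ 2 * g ^ (2 * i + 1) * x * (g ^ 2 * g ^ (2 * i + 1))⁻¹
        = g ^ 2 * (g ^ (2 * i + 1) * x * (g ^ (2 * i + 1))⁻¹) * (g ^ 2)⁻¹ := by group
      _ = g * (g * x⁻¹ * g⁻¹) * g⁻¹ := by rw [ih, pow_two]; group
      _ = x⁻¹ := by rw [h', h]

theorem mem_sylow_of_mem_normalizer {S : Sylow 2 G} {y : G} {k : ℕ} (hy : y ^ 2 ^ k = 1)
    (hn : y ∈ Subgroup.normalizer ((S : Subgroup G) : Set G)) : y ∈ (S : Subgroup G) := by
  haveI : Fact (Nat.Prime 2) := ⟨Nat.prime_two⟩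
  obtain ⟨j, -, hj⟩ := (Nat.dvd_prime_pow Nat.prime_two).mp (orderOf_dvd_of_pow_eq_one hy)
  have hP : IsPGroup 2 (Subgroup.zpowers y) := IsPGroup.of_card (n := j) (by
    rw [Nat.card_zpowers, hj])
  have := hP.inf_normalizer_sylow S
  have hmem : y ∈ Subgroup.zpowers y ⊓ Subgroup.normalizer ((S : Subgroup G) : Set G) :=
    ⟨Subgroup.mem_zpowers y, hn⟩
  exact (this.le hmem).2

theorem eq_one_of_odd_of_pow {x : G} (hx : Odd (orderOf x)) {k : ℕ} (h : x ^ 2 ^ k = 1) : x = 1 := by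
  obtain ⟨j, -, hj⟩ := (Nat.dvd_prime_pow Nat.prime_two).mp (orderOf_dvd_of_pow_eq_one h)
  rcases Nat.eq_zero_or_pos j with rfl | hj0
  · rwa [pow_zero, orderOf_eq_one_iff] at hj
  · rw [hj, Nat.odd_pow_iff hj0.ne'] at hx
    exact absurd hx (by decide)

theorem exists_two_part (g : G) : ∃ i k : ℕ, (g ^ (2 * i + 1)) ^ 2 ^ k = 1 := by
  obtain ⟨k, m, hm, he⟩ := Nat.exists_eq_two_pow_mul_odd (orderOf_pos g).ne'
  obtain ⟨i, hi⟩ := hm
  refine ⟨i, k, ?_⟩
  rw [← pow_mul, ← hi, mul_comm, ← he, pow_orderOf_eq_one]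

theorem exists_odd_pow (c : G) : ∃ k : ℕ, Odd (orderOf (c ^ 2 ^ k)) := by
  obtain ⟨k, m, hm, he⟩ := Nat.exists_eq_two_pow_mul_odd (orderOf_pos c).ne'
  refine ⟨k, ?_⟩
  rw [orderOf_pow' _ (by positivity), he, Nat.gcd_mul_right_left,
    Nat.mul_div_cancel_left _ (by positivity)]
  exact hm

/-- An involution without non-trivial fixed points on `K` inverts it. -/
theorem inverts_of_fpf {a : G} (ha : a * a = 1) {K : Subgroup G}
    (hK : ∀ k ∈ K, a * k * a⁻¹ ∈ K) (hfix : ∀ k ∈ K, a * k = k * a → k = 1) :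
    ∀ k ∈ K, a * k * a⁻¹ = k⁻¹ := by
  have hai : a⁻¹ = a := inv_eq_of_mul_eq_one_right ha
  let f : K → K := fun x => ⟨(x : G)⁻¹ * (a * x * a⁻¹), mul_mem (inv_mem x.2) (hK _ x.2)⟩
  have hf : Function.Injective f := by
    intro x y e
    have e' : (x : G)⁻¹ * (a * x * a⁻¹) = (y : G)⁻¹ * (a * y * a⁻¹) := congrArg Subtype.val e
    have h1 : a * ((y : G) * (x : G)⁻¹) = (y : G) * (x : G)⁻¹ * a := by
      calc a * ((y : G) * (x : G)⁻¹)
          = (y : G) * ((y : G)⁻¹ * (a * y * a⁻¹)) * (a * x * a⁻¹)⁻¹ * a := by group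
        _ = (y : G) * ((x : G)⁻¹ * (a * x * a⁻¹)) * (a * x * a⁻¹)⁻¹ * a := by rw [e']
        _ = (y : G) * (x : G)⁻¹ * a := by group
    have h2 := hfix _ (mul_mem y.2 (inv_mem x.2)) h1
    exact Subtype.ext (mul_inv_eq_one.mp h2).symm
  intro k hk
  obtain ⟨x, hx⟩ := (Finite.injective_iff_surjective.mp hf) ⟨k, hk⟩
  have hx' : (x : G)⁻¹ * (a * x * a⁻¹) = k := congrArg Subtype.val hx
  rw [← hx']
  calc a * ((x : G)⁻¹ * (a * x * a⁻¹)) * a⁻¹ = (a * x * a⁻¹)⁻¹ * ((a * a) * x * (a * a)⁻¹) := by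
        group
    _ = ((x : G)⁻¹ * (a * x * a⁻¹))⁻¹ := by rw [ha]; group

variable {p : ℕ} (R : Rev G p)
include R

theorem Rev.p_odd : Odd p := by
  obtain ⟨n, hn, he⟩ := R.pow
  have : 2 ^ 2 ≤ 2 ^ n := Nat.pow_le_pow_right (by norm_num) hn
  exact R.prime.odd_of_ne_two (by omega)

theorem Rev.three_le : 3 ≤ p := by
  obtain ⟨n, hn, he⟩ := R.pow
  have : 2 ^ 2 ≤ 2 ^ n := Nat.pow_le_pow_right (by norm_num) hn
  omega

theorem Rev.card_sylow (S : Sylow 2 G) : Nat.card S = p + 1 := by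
  haveI : Fact (Nat.Prime 2) := ⟨Nat.prime_two⟩
  obtain ⟨n, -, he⟩ := R.pow
  obtain ⟨r, hr⟩ := IsPGroup.iff_card.mp S.isPGroup'
  have h1 : 2 ^ n ∣ Nat.card S := by
    refine Sylow.pow_dvd_card_of_pow_dvd_card S ?_
    rw [R.card, ← he]
    exact (dvd_mul_right _ _).trans (dvd_mul_right _ _)
  have h2 : Nat.card S ∣ 2 ^ n := by
    have hd : Nat.card S ∣ (p + 1) * (p * (p + 2)) := by
      rw [← mul_assoc, ← R.card]; exact Subgroup.card_subgroup_dvd_card _
    refine he ▸ Nat.Coprime.dvd_of_dvd_mul_right ?_ hd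
    rw [hr]
    exact Nat.Coprime.pow_left _ (Nat.coprime_two_left.mpr
      (R.p_odd.mul (R.p_odd.add_even (by decide))))
  rw [he]
  exact Nat.dvd_antisymm h2 h1

theorem Rev.sylow_ne_bot (S : Sylow 2 G) : ∃ a ∈ (S : Subgroup G), a ≠ 1 := by
  by_contra h
  push Not at h
  have h1 : (S : Subgroup G) = ⊥ := (Subgroup.eq_bot_iff_forall _).mpr h
  have := R.card_sylow S
  have := R.three_le
  have : Nat.card (S : Subgroup G) = 1 := by rw [h1, Subgroup.card_bot]
  omega

theorem Rev.sylow_comm (S : Sylow 2 G) {a b : G} (ha : a ∈ (S : Subgroup G))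
    (hb : b ∈ (S : Subgroup G)) : a * b = b * a := by
  haveI : Fact (Nat.Prime 2) := ⟨Nat.prime_two⟩
  obtain ⟨x, hx, hx1⟩ := R.sylow_ne_bot S
  haveI : Nontrivial S := ⟨⟨⟨x, hx⟩, 1, fun e => hx1 (congrArg Subtype.val e)⟩⟩
  haveI := S.isPGroup'.center_nontrivial
  obtain ⟨⟨z, hz⟩, hz1⟩ := exists_ne (1 : Subgroup.center S)
  refine R.ca (z : G) a b (fun e => hz1 (Subtype.ext (Subtype.ext e))) ?_ ?_
  · exact congrArg Subtype.val (Subgroup.mem_center_iff.mp hz ⟨a, ha⟩)
  · exact congrArg Subtype.val (Subgroup.mem_center_iff.mp hz ⟨b, hb⟩)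

theorem Rev.cent_two (S : Sylow 2 G) {a : G} (ha : a ∈ (S : Subgroup G)) (ha1 : a ≠ 1) {c : G}
    (hc : c * a = a * c) : c ∈ (S : Subgroup G) := by
  have hodd : ∀ d : G, d * a = a * d → Odd (orderOf d) → d = 1 := by
    intro d hd hdo
    by_contra hd1
    have hS : ∀ s ∈ (S : Subgroup G), s * d = d * s := fun s hs =>
      R.ca a s d ha1 (R.sylow_comm S hs ha) hd
    obtain ⟨g₀, hg₀⟩ := R.real d
    obtain ⟨i, k, hk⟩ := exists_two_part g₀
    set g := g₀ ^ (2 * i + 1) with hg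
    have hgd : g * d * g⁻¹ = d⁻¹ := conj_pow_inv hg₀ i
    have hgn : g ∈ Subgroup.normalizer ((S : Subgroup G) : Set G) := by
      refine mem_normalizer_of_conj fun s hs => ?_
      obtain ⟨j, hj⟩ := S.isPGroup' ⟨s, hs⟩
      have hj' : s ^ 2 ^ j = 1 := congrArg Subtype.val hj
      refine mem_sylow_of_mem_normalizer (k := j) (by rw [conj_pow, hj']; group) ?_
      have hsd : (g * s * g⁻¹) * d = d * (g * s * g⁻¹) := by
        have e : (g * s * g⁻¹) * d⁻¹ = d⁻¹ * (g * s * g⁻¹) := by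
          rw [← hgd]
          exact (conj_commute_iff g s d).mpr (hS s hs)
        calc (g * s * g⁻¹) * d = d * (d⁻¹ * (g * s * g⁻¹)) * d := by group
          _ = d * ((g * s * g⁻¹) * d⁻¹) * d := by rw [e]
          _ = d * (g * s * g⁻¹) := by group
      refine mem_normalizer_of_conj fun w hw => ?_
      rw [R.ca d (g * s * g⁻¹) w hd1 hsd (hS w hw), mul_inv_cancel_right]
      exact hw
    have hgS := mem_sylow_of_mem_normalizer hk hgn
    rw [hS g hgS, mul_inv_cancel_right] at hgd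
    have hd2 : d ^ 2 ^ 1 = 1 := by
      rw [pow_one, pow_two]
      nth_rewrite 2 [hgd]
      exact mul_inv_cancel d
    exact hd1 (eq_one_of_odd_of_pow hdo hd2)
  obtain ⟨k, hk⟩ := exists_odd_pow c
  have hk1 : c ^ 2 ^ k = 1 := hodd _ ((Commute.pow_left (show Commute c a from hc) _).eq) hk
  refine mem_sylow_of_mem_normalizer hk1 (mem_normalizer_of_conj fun w hw => ?_)
  rw [R.ca a c w ha1 hc (R.sylow_comm S hw ha), mul_inv_cancel_right]
  exact hw

theorem Rev.cent_inv {u : G} (hu : u * u = 1) (hu1 : u ≠ 1) :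
    ∃ S : Sylow 2 G, u ∈ (S : Subgroup G) ∧ ∀ c, c * u = u * c → c ∈ (S : Subgroup G) := by
  haveI : Fact (Nat.Prime 2) := ⟨Nat.prime_two⟩
  have h : IsPGroup 2 (Subgroup.zpowers u) := IsPGroup.of_card (n := 1) (by
    rw [Nat.card_zpowers, pow_one]
    exact orderOf_eq_prime (by rwa [pow_two]) hu1)
  obtain ⟨S, hS⟩ := h.exists_le_sylow
  exact ⟨S, hS (Subgroup.mem_zpowers u), fun c hc => R.cent_two S (hS (Subgroup.mem_zpowers u)) hu1 hc⟩

/-- Burnside: a Sylow 2-subgroup is not self-normalizing. -/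
theorem Rev.exists_normalizing [IsSimpleGroup G] (S : Sylow 2 G) :
    ∃ n ∈ Subgroup.normalizer ((S : Subgroup G) : Set G), n ∉ (S : Subgroup G) := by
  classical
  haveI : Fact (Nat.Prime 2) := ⟨Nat.prime_two⟩
  by_contra h
  push Not at h
  have hle : Subgroup.normalizer ((S : Subgroup G) : Set G) ≤
      Subgroup.centralizer ((S : Subgroup G) : Set G) := fun n hn =>
    Subgroup.mem_centralizer_iff.mpr fun w hw => R.sylow_comm S hw (h n hn)
  have hc := MonoidHom.ker_transferSylow_isComplement' S hle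
  have hm := hc.card_mul
  rcases Subgroup.Normal.eq_bot_or_eq_top (MonoidHom.normal_ker (MonoidHom.transferSylow S hle))
    with hb | hb
  · rw [hb, Subgroup.card_bot, one_mul, R.card, show Nat.card (S : Subgroup G) = p + 1 from
      R.card_sylow S, mul_assoc] at hm
    have h1 : 1 < p * (p + 2) := by
      have := R.three_le
      nlinarith
    have := Nat.eq_of_mul_eq_mul_left (Nat.succ_pos p) ((mul_one (p + 1)).trans hm)
    omega
  · rw [hb, Subgroup.card_top, show Nat.card (S : Subgroup G) = p + 1 from R.card_sylow S,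
      R.card] at hm
    have := R.three_le
    have h1 : 0 < (p + 1) * p * (p + 2) := by positivity
    nlinarith

/-- The normalizer of a Sylow 2-subgroup. -/
theorem Rev.normalizer_facts [IsSimpleGroup G] (S : Sylow 2 G) :
    (∀ a ∈ (S : Subgroup G), a * a = 1) ∧
    Nat.card (Subgroup.normalizer ((S : Subgroup G) : Set G)) = (p + 1) * p ∧
    ∀ n ∈ Subgroup.normalizer ((S : Subgroup G) : Set G), n ∉ (S : Subgroup G) →
      orderOf n = p ∧ ∀ a ∈ (S : Subgroup G), a ≠ 1 → ∀ b ∈ (S : Subgroup G), b ≠ 1 →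
        ∃ i : ℕ, n ^ i * a * (n ^ i)⁻¹ = b := by
  classical
  haveI : Fact (Nat.Prime 2) := ⟨Nat.prime_two⟩
  set N := Subgroup.normalizer ((S : Subgroup G) : Set G) with hN
  let Y := {a : G // a ∈ (S : Subgroup G) ∧ a ≠ 1}
  letI : MulAction N Y :=
    { smul := fun n y => ⟨(n : G) * y.1 * (n : G)⁻¹,
        (Subgroup.mem_normalizer_iff.mp n.2 y.1).mp y.2.1, fun e => y.2.2 (conj_eq_one_iff.mp e)⟩
      one_smul := fun y => Subtype.ext (by show (1 : G) * y.1 * (1 : G)⁻¹ = y.1; group)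
      mul_smul := fun a b y => Subtype.ext (by
        show (a : G) * b * y.1 * ((a : G) * b)⁻¹ = (a : G) * ((b : G) * y.1 * (b : G)⁻¹) * (a : G)⁻¹
        group) }
  have hY : Nat.card Y = p := by
    have e : {a : G | a ∈ (S : Subgroup G) ∧ a ≠ 1} = ((S : Subgroup G) : Set G) \ {1} := by
      ext a; exact Iff.rfl
    show Nat.card {a : G | a ∈ (S : Subgroup G) ∧ a ≠ 1} = p
    rw [Nat.card_coe_set_eq, e, Set.ncard_diff_singleton_of_mem (one_mem _),
      ← Nat.card_coe_set_eq]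
    show Nat.card S - 1 = p
    rw [R.card_sylow S, Nat.add_sub_cancel]
  have hstab : ∀ y : Y, MulAction.stabilizer N y = (S : Subgroup G).subgroupOf N := by
    intro y
    ext n
    rw [MulAction.mem_stabilizer_iff, Subgroup.mem_subgroupOf]
    constructor
    · intro h
      have h' : (n : G) * y.1 * (n : G)⁻¹ = y.1 := congrArg Subtype.val h
      exact R.cent_two S y.2.1 y.2.2 (mul_inv_eq_iff_eq_mul.mp h')
    · intro h
      refine Subtype.ext ?_
      show (n : G) * y.1 * (n : G)⁻¹ = y.1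
      rw [R.sylow_comm S h y.2.1, mul_inv_cancel_right]
  set k := ((S : Subgroup G).subgroupOf N).index with hk
  have horb : ∀ y : Y, Nat.card (MulAction.orbit N y) = k := fun y => by
    rw [hk, ← hstab y, MulAction.index_stabilizer, Nat.card_coe_set_eq]
  haveI : Fintype Y := Fintype.ofFinite _
  haveI : Fintype (Quotient (MulAction.orbitRel N Y)) := Fintype.ofFinite _
  have hsum : Nat.card Y = Nat.card (Quotient (MulAction.orbitRel N Y)) * k := by
    rw [Nat.card_congr (MulAction.selfEquivSigmaOrbits N Y), Nat.card_sigma,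
      Finset.sum_congr rfl fun _ _ => horb _, Finset.sum_const, Finset.card_univ, smul_eq_mul,
      Nat.card_eq_fintype_card]
  have hk1 : k ≠ 1 := by
    intro h1
    obtain ⟨n, hn, hnS⟩ := R.exists_normalizing S
    exact hnS ((Subgroup.index_eq_one.mp h1 ▸ Subgroup.mem_top (⟨n, hn⟩ : N) :
      (⟨n, hn⟩ : N) ∈ (S : Subgroup G).subgroupOf N))
  have hkp : k = p := ((Nat.dvd_prime R.prime).mp ⟨_, (hY.symm.trans hsum).trans (mul_comm _ _)⟩
    ).resolve_left hk1
  have hcardN : Nat.card N = (p + 1) * p := by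
    rw [← ((S : Subgroup G).subgroupOf N).card_mul_index, ← hk, hkp,
      Nat.card_congr (Subgroup.subgroupOfEquivOfLe (Subgroup.le_normalizer)).toEquiv,
      show Nat.card (S : Subgroup G) = p + 1 from R.card_sylow S]
  have hone : Subsingleton (Quotient (MulAction.orbitRel N Y)) := by
    rw [hY, hkp] at hsum
    have : Nat.card (Quotient (MulAction.orbitRel N Y)) = 1 :=
      (Nat.eq_of_mul_eq_mul_right R.prime.pos ((one_mul p).trans hsum)).symm
    exact (Nat.card_eq_one_iff_unique.mp this).1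
  have htrans : ∀ a b : Y, ∃ n : N, n • a = b := fun a b => by
    have h2 : MulAction.orbitRel N Y b a := Quotient.exact (hone.elim _ _)
    exact h2
  refine ⟨?_, hcardN, ?_⟩
  · intro a ha
    by_cases ha1 : a = 1
    · rw [ha1, one_mul]
    have h2 : 2 ∣ Nat.card (S : Subgroup G) := by
      rw [show Nat.card (S : Subgroup G) = p + 1 from R.card_sylow S]
      exact even_iff_two_dvd.mp R.p_odd.add_one
    obtain ⟨⟨t, ht⟩, ht2⟩ := exists_prime_orderOf_dvd_card' 2 h2
    rw [Subgroup.orderOf_mk] at ht2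
    obtain ⟨n, hn⟩ := htrans ⟨t, ht, fun e => by rw [e, orderOf_one] at ht2; omega⟩ ⟨a, ha, ha1⟩
    have hn' : (n : G) * t * (n : G)⁻¹ = a := congrArg Subtype.val hn
    rw [← hn', conj_mul, ← pow_two, ← ht2, pow_orderOf_eq_one]
    group
  · intro n hn hnS
    haveI : Fact p.Prime := ⟨R.prime⟩
    haveI hnorm : ((S : Subgroup G).subgroupOf N).Normal := Subgroup.normal_in_normalizer
    have hnp : n ^ p = 1 := by
      have hmem : (⟨n, hn⟩ : N) ^ p ∈ (S : Subgroup G).subgroupOf N := by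
        rw [← hkp, hk]; exact Subgroup.pow_index_mem _ _
      by_contra hne
      exact hnS (R.cent_two S hmem hne (show n * n ^ p = n ^ p * n from
        ((Commute.refl n).pow_right p).eq))
    have hord : orderOf n = p := orderOf_eq_prime hnp fun e => hnS (e ▸ one_mem _)
    refine ⟨hord, fun a ha ha1 b hb hb1 => ?_⟩
    let φ : Fin p → Y := fun i => (⟨n, hn⟩ : N) ^ (i : ℕ) • (⟨a, ha, ha1⟩ : Y)
    have hφ : Function.Injective φ := by
      intro i j e
      have e1 : ((⟨n, hn⟩ : N) ^ (j : ℕ))⁻¹ * (⟨n, hn⟩ : N) ^ (i : ℕ) ∈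
          MulAction.stabilizer N (⟨a, ha, ha1⟩ : Y) := by
        rw [MulAction.mem_stabilizer_iff, mul_smul, inv_smul_eq_iff]; exact e
      rw [hstab, Subgroup.mem_subgroupOf] at e1
      have e2 : ((n : G) ^ (j : ℕ))⁻¹ * n ^ (i : ℕ) ∈ Subgroup.zpowers n :=
        mul_mem (inv_mem (pow_mem (Subgroup.mem_zpowers n) _)) (pow_mem (Subgroup.mem_zpowers n) _)
      have e3 : ((n : G) ^ (j : ℕ))⁻¹ * n ^ (i : ℕ) = 1 := by
        obtain ⟨m, hm⟩ := S.isPGroup' ⟨_, e1⟩
        have hm' : (((n : G) ^ (j : ℕ))⁻¹ * n ^ (i : ℕ)) ^ 2 ^ m = 1 := congrArg Subtype.val hm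
        refine eq_one_of_odd_of_pow ?_ hm'
        exact R.p_odd.of_dvd_nat
          ((Subgroup.orderOf_dvd_natCard _ e2).trans ((Nat.card_zpowers n).trans hord).dvd)
      have e4 : (n : G) ^ (j : ℕ) = n ^ (i : ℕ) := inv_mul_eq_one.mp e3
      exact Fin.ext ((pow_injOn_Iio_orderOf (by rw [Set.mem_Iio, hord]; exact j.2)
        (by rw [Set.mem_Iio, hord]; exact i.2) e4).symm)
    have hφs : Function.Surjective φ :=
      (hφ.bijective_of_nat_card_le (by rw [hY, Nat.card_fin])).2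
    obtain ⟨i, hi⟩ := hφs ⟨b, hb, hb1⟩
    exact ⟨i, congrArg Subtype.val hi⟩

theorem Rev.normalizer_maximal [IsSimpleGroup G] (S : Sylow 2 G) {H : Subgroup G}
    (hle : Subgroup.normalizer ((S : Subgroup G) : Set G) ≤ H)
    (hne : H ≠ Subgroup.normalizer ((S : Subgroup G) : Set G)) : H = ⊤ := by
  classical
  haveI : Fact (Nat.Prime 2) := ⟨Nat.prime_two⟩
  obtain ⟨-, hcardN, -⟩ := R.normalizer_facts S
  obtain ⟨h₀, hh₀, hh₀N⟩ : ∃ h ∈ H, h ∉ Subgroup.normalizer ((S : Subgroup G) : Set G) := by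
    by_contra hcon
    push Not at hcon
    exact hne (le_antisymm hcon hle)
  have hS₀ : h₀ • S ≠ S := fun e => hh₀N (Sylow.smul_eq_iff_mem_normalizer.mp e)
  have hn : Nat.card (Sylow 2 G) = p + 2 := by
    rw [Sylow.card_eq_index_normalizer S]
    have h1 := (Subgroup.normalizer ((S : Subgroup G) : Set G)).card_mul_index
    rw [hcardN, R.card] at h1
    exact Nat.eq_of_mul_eq_mul_left (Nat.mul_pos (Nat.succ_pos p) R.prime.pos) h1
  let ψ : ↥(S : Subgroup G) → {T : Sylow 2 G // T ≠ S} := fun s =>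
    ⟨(s : G) • (h₀ • S), fun e => hS₀ (by
      have h1 := congrArg (fun T => (s : G)⁻¹ • T) e
      simp only [inv_smul_smul] at h1
      rw [h1, Sylow.smul_eq_iff_mem_normalizer]
      exact Subgroup.le_normalizer (inv_mem s.2))⟩
  have hψ : Function.Injective ψ := by
    intro s r e
    have e' : (s : G) • (h₀ • S) = (r : G) • (h₀ • S) := congrArg Subtype.val e
    by_contra hsr
    set d : G := (r : G)⁻¹ * (s : G) with hd
    have hd1 : d ≠ 1 := fun h => hsr (Subtype.ext (inv_mul_eq_one.mp h).symm)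
    have hdS : d ∈ (S : Subgroup G) := mul_mem (inv_mem r.2) s.2
    have hfix : d • (h₀ • S) = h₀ • S := by rw [hd, mul_smul, e', inv_smul_smul]
    obtain ⟨m, hm⟩ := S.isPGroup' ⟨d, hdS⟩
    have hdT := mem_sylow_of_mem_normalizer (congrArg Subtype.val hm)
      (Sylow.smul_eq_iff_mem_normalizer.mp hfix)
    exact hS₀ (Sylow.ext (le_antisymm
      (fun c hc => R.cent_two S hdS hd1 (R.sylow_comm (h₀ • S) hc hdT))
      (fun c hc => R.cent_two (h₀ • S) hdT hd1 (R.sylow_comm S hc hdS))))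
  have hψs : Function.Surjective ψ := by
    refine (hψ.bijective_of_nat_card_le ?_).2
    have : Nat.card {T : Sylow 2 G // T ≠ S} = p + 1 := by
      show Nat.card ({S}ᶜ : Set (Sylow 2 G)) = p + 1
      rw [Nat.card_coe_set_eq, Set.ncard_compl, hn, Set.ncard_singleton]
      omega
    rw [this]
    exact (R.card_sylow S).ge
  refine eq_top_iff.mpr fun g _ => ?_
  by_cases hg : g • S = S
  · exact hle (Sylow.smul_eq_iff_mem_normalizer.mp hg)
  obtain ⟨s, hs⟩ := hψs ⟨g • S, hg⟩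
  have hs' : (s : G) • (h₀ • S) = g • S := congrArg Subtype.val hs
  have hmem : ((s : G) * h₀)⁻¹ * g ∈ Subgroup.normalizer ((S : Subgroup G) : Set G) := by
    refine Sylow.smul_eq_iff_mem_normalizer.mp ?_
    rw [mul_smul, ← hs', ← mul_smul ((s : G)), inv_smul_smul]
  have := mul_mem (mul_mem (hle (Subgroup.le_normalizer s.2)) hh₀) (hle hmem)
  rwa [mul_inv_cancel_left] at this

/-- Centralizers of non-trivial elements of odd order have odd order. -/
theorem Rev.eq_one_of_sq {x c : G} (hx1 : x ≠ 1) (hxo : Odd (orderOf x)) (hc : c * x = x * c)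
    (hc2 : c * c = 1) : c = 1 := by
  by_contra hc1
  obtain ⟨S, -, hS⟩ := R.cent_inv hc2 hc1
  obtain ⟨j, hj⟩ := S.isPGroup' ⟨x, hS x hc.symm⟩
  exact hx1 (eq_one_of_odd_of_pow hxo (congrArg Subtype.val hj))

theorem Rev.eq_one_of_two_pow {x : G} (hx1 : x ≠ 1) (hxo : Odd (orderOf x)) :
    ∀ (k : ℕ) (c : G), c * x = x * c → c ^ 2 ^ k = 1 → c = 1 := by
  intro k
  induction k with
  | zero => intro c _ h; simpa using h
  | succ k ih =>
    intro c hc h
    refine ih c hc (R.eq_one_of_sq hx1 hxo ((Commute.pow_left (show Commute c x from hc) _).eq) ?_)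
    rw [← pow_two, ← pow_mul, ← pow_succ, h]

theorem Rev.exists_inverting {x : G} (hx1 : x ≠ 1) (hxo : Odd (orderOf x)) :
    ∃ u : G, u * u = 1 ∧ u ≠ 1 ∧ u * x * u⁻¹ = x⁻¹ := by
  obtain ⟨g₀, hg₀⟩ := R.real x
  obtain ⟨i, k, hk⟩ := exists_two_part g₀
  set g := g₀ ^ (2 * i + 1) with hg
  have hgx : g * x * g⁻¹ = x⁻¹ := conj_pow_inv hg₀ i
  have h2 : g * g * x * (g * g)⁻¹ = x := by
    calc g * g * x * (g * g)⁻¹ = g * (g * x * g⁻¹) * g⁻¹ := by group
      _ = (g * x * g⁻¹)⁻¹ := by rw [hgx]; rw [← conj_inv, hgx]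
      _ = x := by rw [hgx, inv_inv]
  refine ⟨g, R.eq_one_of_two_pow hx1 hxo k _ (mul_inv_eq_iff_eq_mul.mp h2) ?_, ?_, hgx⟩
  · rw [← pow_two, ← pow_mul, mul_comm, pow_mul, hk, one_pow]
  · intro h1
    rw [h1, one_mul, inv_one, mul_one] at hgx
    exact hx1 (eq_one_of_odd_of_pow hxo (k := 1) (by
      rw [pow_one, pow_two]; nth_rewrite 2 [hgx]; exact mul_inv_cancel x))

/-- The normalizer of the centralizer of an element of odd order. -/
theorem Rev.mem_or_mul_mem [IsSimpleGroup G] {x u g : G} (hx1 : x ≠ 1) (hxo : Odd (orderOf x))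
    (hu : u * u = 1) (hu1 : u ≠ 1) (hinv : u * x * u⁻¹ = x⁻¹)
    (hg : ∀ c, c * x = x * c → (g * c * g⁻¹) * x = x * (g * c * g⁻¹)) :
    (∀ c, c * x = x * c → u * c * u⁻¹ = c⁻¹) ∧
      (g * x = x * g ∨ (g * u) * x = x * (g * u)) := by
  set T := Subgroup.centralizer ({x} : Set G) with hT
  have hmT : ∀ c, c ∈ T ↔ c * x = x * c := fun c => Subgroup.mem_centralizer_singleton_iff
  have hinvT : ∀ v : G, v * v = 1 → v ≠ 1 → (∀ c ∈ T, v * c * v⁻¹ ∈ T) →
      ∀ c ∈ T, v * c * v⁻¹ = c⁻¹ := by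
    intro v hv hv1 hvT
    refine inverts_of_fpf hv hvT fun c hc hcv => ?_
    obtain ⟨S, -, hS⟩ := R.cent_inv hv hv1
    obtain ⟨j, hj⟩ := S.isPGroup' ⟨c, hS c hcv.symm⟩
    exact R.eq_one_of_two_pow hx1 hxo j c ((hmT c).mp hc) (congrArg Subtype.val hj)
  have huT : ∀ c ∈ T, u * c * u⁻¹ = c⁻¹ := by
    refine hinvT u hu hu1 fun c hc => ?_
    rw [hmT] at hc ⊢
    have e : (u * c * u⁻¹) * x⁻¹ = x⁻¹ * (u * c * u⁻¹) := by
      rw [← hinv]; exact (conj_commute_iff u c x).mpr hc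
    exact (Commute.inv_right_iff.mp e).eq
  refine ⟨fun c hc => huT c ((hmT c).mpr hc), ?_⟩
  have hgn : g ∈ Subgroup.normalizer (T : Set G) :=
    mem_normalizer_of_conj fun c hc => (hmT _).mpr (hg c ((hmT c).mp hc))
  set v := g * u * g⁻¹ with hv
  have hvx : v * x * v⁻¹ = x⁻¹ := by
    have hy : g⁻¹ * x * g ∈ T := (Subgroup.mem_normalizer_iff''.mp hgn x).mp ((hmT x).mpr rfl)
    calc v * x * v⁻¹ = g * (u * (g⁻¹ * x * g) * u⁻¹) * g⁻¹ := by rw [hv]; group
      _ = g * (g⁻¹ * x * g)⁻¹ * g⁻¹ := by rw [huT _ hy]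
      _ = x⁻¹ := by group
  have hc : v * u ∈ T := by
    have hui : u⁻¹ = u := inv_eq_of_mul_eq_one_right hu
    rw [hmT]
    refine mul_inv_eq_iff_eq_mul.mp ?_
    calc v * u * x * (v * u)⁻¹ = v * (u * x * u⁻¹) * v⁻¹ := by group
      _ = (v * x * v⁻¹)⁻¹ := by rw [hinv]; group
      _ = x := by rw [hvx, inv_inv]
  obtain ⟨k, hk⟩ := exists_odd_pow (v * u)
  have hodd : Odd (orderOf (v * u)) := by
    have hcx := (hmT _).mp hc
    obtain ⟨e, m, hm, he⟩ := Nat.exists_eq_two_pow_mul_odd (orderOf_pos (v * u)).ne'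
    have h1 : (v * u) ^ m = 1 := R.eq_one_of_two_pow hx1 hxo e _
      ((Commute.pow_left (show Commute (v * u) x from hcx) _).eq)
      (by rw [← pow_mul, mul_comm, ← he, pow_orderOf_eq_one])
    exact hm.of_dvd_nat (orderOf_dvd_of_pow_eq_one h1)
  obtain ⟨j, hj⟩ := hodd
  set l := (v * u) ^ (j + 1) with hl
  have hlT : l ∈ T := pow_mem hc _
  have hll : l * l = v * u := by
    rw [hl, ← _root_.pow_add, show j + 1 + (j + 1) = orderOf (v * u) + 1 by omega, pow_succ,
      pow_orderOf_eq_one, one_mul]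
  set g' := l⁻¹ * g with hg'
  have hgu : g' * u * g'⁻¹ = u := by
    calc g' * u * g'⁻¹ = l⁻¹ * (v * u) * u⁻¹ * l := by rw [hg', hv]; group
      _ = l⁻¹ * (l * l) * u⁻¹ * l := by rw [hll]
      _ = l * (u⁻¹ * l * u) * u⁻¹ := by group
      _ = l * (u * l * u⁻¹) * u⁻¹ := by rw [inv_eq_of_mul_eq_one_right hu]
      _ = l * l⁻¹ * u⁻¹ := by rw [huT l hlT]
      _ = u := by rw [mul_inv_cancel, one_mul, inv_eq_of_mul_eq_one_right hu]
  have hcomm : g' * u = u * g' := mul_inv_eq_iff_eq_mul.mp hgu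
  obtain ⟨S, huS, hS⟩ := R.cent_inv hu hu1
  have hg'2 : g' * g' = 1 := (R.normalizer_facts S).1 g' (hS g' hcomm)
  by_cases h1 : g' = 1
  · left
    have : g = l := (inv_mul_eq_one.mp h1).symm
    rw [this]; exact (hmT l).mp hlT
  right
  have hg'n : ∀ c ∈ T, g' * c * g'⁻¹ ∈ T := fun c hc =>
    (Subgroup.mem_normalizer_iff.mp
      (mul_mem (Subgroup.le_normalizer (inv_mem hlT)) hgn) c).mp hc
  have h2 : g' * u ∈ T := by
    rw [hmT]
    refine mul_inv_eq_iff_eq_mul.mp ?_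
    calc g' * u * x * (g' * u)⁻¹ = g' * (u * x * u⁻¹) * g'⁻¹ := by group
      _ = (g' * x * g'⁻¹)⁻¹ := by rw [hinv, conj_inv]
      _ = x := by rw [hinvT g' hg'2 h1 hg'n x ((hmT x).mpr rfl), inv_inv]
  have h3 : g' * u = 1 := R.eq_one_of_sq hx1 hxo ((hmT _).mp h2) (by
    calc g' * u * (g' * u) = g' * u * (u * g') := by rw [hcomm]
      _ = g' * (u * u) * g' := by group
      _ = 1 := by rw [hu, mul_one, hg'2])
  have : g * u = l := by
    calc g * u = l * (g' * u) := by rw [hg']; group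
      _ = l := by rw [h3, mul_one]
  rw [this]; exact (hmT l).mp hlT

/-- Subgroups of odd order are abelian. -/
theorem Rev.comm_of_odd [IsSimpleGroup G] {H : Subgroup G} (hH : Odd (Nat.card H)) :
    IsMulCommutative H := by
  classical
  by_contra hna
  have hne : ∀ x : H, x ≠ 1 → (x : G) ≠ 1 := fun x hx e => hx (Subtype.ext e)
  have hodd : ∀ x : H, Odd (orderOf (x : G)) := fun x => by
    rw [Subgroup.orderOf_coe]; exact hH.of_dvd_nat (orderOf_dvd_natCard x)
  have hcom : ∀ a b : H, a * b = b * a ↔ (a : G) * b = b * a := fun a b =>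
    ⟨fun e => congrArg Subtype.val e, fun e => Subtype.ext e⟩
  have hti : ∀ x : H, x ≠ 1 → ∀ g z : H, z ∈ Subgroup.centralizer ({x} : Set H) → z ≠ 1 →
      g * z * g⁻¹ ∈ Subgroup.centralizer ({x} : Set H) →
      g ∈ Subgroup.centralizer ({x} : Set H) := by
    intro x hx g z hz hz1 hgz
    rw [Subgroup.mem_centralizer_singleton_iff, hcom] at hz hgz ⊢
    obtain ⟨u, hu, hu1, hinv⟩ := R.exists_inverting (hne x hx) (hodd x)
    obtain ⟨hI, h | h⟩ := R.mem_or_mul_mem (g := (g : G)) (hne x hx) (hodd x) hu hu1 hinv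
      fun c hc => by
        have h1 : c * (z : G) = z * c := R.ca x c z (hne x hx) hc hz
        exact R.ca ((g : G) * z * (g : G)⁻¹) _ _
          (fun e => hne z hz1 (conj_eq_one_iff.mp e))
          ((conj_commute_iff (g : G) c z).mpr h1) hgz.symm
    · exact h
    · have e : ((g : G) * u) * u = g := by rw [mul_assoc, hu, mul_one]
      have hg2 : (g : G) ^ 2 ^ 1 = 1 := by
        rw [pow_one, pow_two]
        calc (g : G) * g = ((g : G) * u) * (u * ((g : G) * u) * u⁻¹) := by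
              rw [show ((g : G) * u) * (u * ((g : G) * u) * u⁻¹) = (g : G) * (u * u) * g by group,
                hu, mul_one]
          _ = 1 := by rw [hI _ h, mul_inv_cancel]
      rw [eq_one_of_odd_of_pow (hodd g) hg2, one_mul, mul_one]
  have hM : ∀ x : H, x ≠ 1 → ∀ m ∈ Subgroup.centralizer ({x} : Set H),
      ∀ z ∈ Subgroup.centralizer ({x} : Set H),
      m * z * m⁻¹ ∈ Subgroup.centralizer ({x} : Set H) := fun x _ m hm z hz =>
    mul_mem (mul_mem hm hz) (inv_mem hm)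
  have hself : ∀ x : H, x ∈ Subgroup.centralizer ({x} : Set H) := fun x =>
    Subgroup.mem_centralizer_singleton_iff.mpr rfl
  have hcnt : ∀ x : H, x ≠ 1 → 3 ≤ Nat.card (Subgroup.centralizer ({x} : Set H)) ∧
      Nat.card (conjSet (Subgroup.centralizer ({x} : Set H))) *
        Nat.card (Subgroup.centralizer ({x} : Set H)) =
        Nat.card H * (Nat.card (Subgroup.centralizer ({x} : Set H)) - 1) ∧
      Nat.card (Subgroup.centralizer ({x} : Set H)) < Nat.card H := by
    intro x hx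
    refine ⟨?_, card_conjSet _ _ (hti x hx) (hM x hx), ?_⟩
    · obtain ⟨j, hj⟩ : Odd (Nat.card (Subgroup.centralizer ({x} : Set H))) :=
        hH.of_dvd_nat (Subgroup.card_subgroup_dvd_card _)
      have : 1 < Nat.card (Subgroup.centralizer ({x} : Set H)) := by
        rw [Finite.one_lt_card_iff_nontrivial]
        exact ⟨⟨⟨x, hself x⟩, 1, fun e => hx (congrArg Subtype.val e)⟩⟩
      omega
    · refine lt_of_le_of_ne (Subgroup.card_le_card_group _) fun e => hna ?_
      have htop := (Subgroup.card_eq_iff_eq_top _).mp e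
      refine isMulCommutative_iff.mpr fun a b => ?_
      have ha : a ∈ Subgroup.centralizer ({x} : Set H) := htop ▸ Subgroup.mem_top a
      have hb : b ∈ Subgroup.centralizer ({x} : Set H) := htop ▸ Subgroup.mem_top b
      rw [Subgroup.mem_centralizer_singleton_iff, hcom] at ha hb
      exact (hcom a b).mpr (R.ca x a b (hne x hx) ha hb)
  obtain ⟨x, hx⟩ : ∃ x : H, x ≠ 1 := by
    by_contra hcon
    push Not at hcon
    exact hna (isMulCommutative_iff.mpr fun a b => by rw [hcon a, hcon b])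
  set T := Subgroup.centralizer ({x} : Set H) with hT
  obtain ⟨h3, hc, hlt⟩ : 3 ≤ Nat.card T ∧ Nat.card (conjSet T) * Nat.card T =
      Nat.card H * (Nat.card T - 1) ∧ Nat.card T < Nat.card H := hcnt x hx
  have h1T : (1 : H) ∉ conjSet T := by
    rintro ⟨g, z, -, hz1, e⟩
    exact hz1 (conj_eq_one_iff.mp e)
  obtain ⟨y, hy1, hyT⟩ : ∃ y : H, y ≠ 1 ∧ y ∉ conjSet T := by
    by_contra hcon
    push Not at hcon
    have e : conjSet T = {(1 : H)}ᶜ := Set.ext fun y =>
      ⟨fun hy e => h1T ((Set.mem_singleton_iff.mp e) ▸ hy), fun hy => hcon y hy⟩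
    have e' : Nat.card (conjSet T) = Nat.card H - 1 := by
      rw [e, Nat.card_coe_set_eq, Set.ncard_compl, Set.ncard_singleton]
    rw [e'] at hc
    obtain ⟨a, ha⟩ : ∃ a, Nat.card H = a + 1 := ⟨Nat.card H - 1, by omega⟩
    obtain ⟨b, hb⟩ : ∃ b, Nat.card T = b + 1 := ⟨Nat.card T - 1, by omega⟩
    rw [ha, hb, Nat.add_sub_cancel, Nat.add_sub_cancel] at hc
    have : a = b := by nlinarith
    omega
  obtain ⟨h3', hc', -⟩ := hcnt y hy1
  have hdis : Disjoint (conjSet T) (conjSet (Subgroup.centralizer ({y} : Set H))) := by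
    rw [Set.disjoint_left]
    rintro _ ⟨g, z, hz, hz1, rfl⟩ ⟨h, w, hw, hw1, e⟩
    refine hyT ⟨h⁻¹ * g, g⁻¹ * (h * y * h⁻¹) * g, ?_, fun e' => hy1 ?_, by group⟩
    · rw [hT, Subgroup.mem_centralizer_singleton_iff, hcom] at hz ⊢
      rw [Subgroup.mem_centralizer_singleton_iff] at hw
      have h1 : (g⁻¹ * (h * y * h⁻¹) * g) * z = z * (g⁻¹ * (h * y * h⁻¹) * g) := by
        have h2 : (h * y * h⁻¹) * (g * z * g⁻¹) = (g * z * g⁻¹) * (h * y * h⁻¹) := by
          rw [← e]; exact (conj_commute_iff h y w).mpr hw.symm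
        rw [← conj_commute_iff g, show g * (g⁻¹ * (h * y * h⁻¹) * g) * g⁻¹ = h * y * h⁻¹ by group]
        exact h2
      exact R.ca z _ x (hne z hz1) ((hcom _ _).mp h1) hz.symm
    · calc y = (h⁻¹ * g) * (g⁻¹ * (h * y * h⁻¹) * g) * (h⁻¹ * g)⁻¹ := by group
        _ = 1 := by rw [e']; group
  have hle : Nat.card (conjSet T) + Nat.card (conjSet (Subgroup.centralizer ({y} : Set H))) ≤
      Nat.card H := by
    rw [Nat.card_coe_set_eq, Nat.card_coe_set_eq, ← Set.ncard_union_eq hdis, ← Set.ncard_univ]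
    exact Set.ncard_le_ncard (Set.subset_univ _)
  obtain ⟨b, hb⟩ : ∃ b, Nat.card T = b + 3 := ⟨Nat.card T - 3, by omega⟩
  obtain ⟨b', hb'⟩ : ∃ b, Nat.card (Subgroup.centralizer ({y} : Set H)) = b + 3 :=
    ⟨Nat.card (Subgroup.centralizer ({y} : Set H)) - 3, by omega⟩
  rw [hb, show b + 3 - 1 = b + 2 by omega] at hc
  rw [hb', show b' + 3 - 1 = b' + 2 by omega] at hc'
  have hpos : 0 < Nat.card H := Nat.card_pos
  nlinarith

theorem Rev.sn [IsSimpleGroup G] : SN G := by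
  classical
  haveI : Fact (Nat.Prime 2) := ⟨Nat.prime_two⟩
  intro H hna
  refine le_antisymm ?_ Subgroup.le_normalizer
  have heven : 2 ∣ Nat.card H := by
    by_contra h2
    exact hna (R.comm_of_odd (Nat.odd_iff.mpr (Nat.two_dvd_ne_zero.mp h2)))
  obtain ⟨t, ht⟩ := exists_prime_orderOf_dvd_card' 2 heven
  obtain ⟨D, hD⟩ := (IsPGroup.of_card (n := 1) (by
    rw [Nat.card_zpowers, ht, pow_one]) : IsPGroup 2 (Subgroup.zpowers t)).exists_le_sylow
  have htD : t ∈ (D : Subgroup H) := hD (Subgroup.mem_zpowers t)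
  have ht2 : (t : G) * t = 1 := by
    have h2 : t * t = 1 := by rw [← pow_two, ← ht, pow_orderOf_eq_one]
    exact congrArg Subtype.val h2
  have ht1 : (t : G) ≠ 1 := fun e => by
    rw [show t = 1 from Subtype.ext e, orderOf_one] at ht
    omega
  obtain ⟨S, htS, hS⟩ := R.cent_inv ht2 ht1
  obtain ⟨S', hS'⟩ := (D.isPGroup'.map H.subtype).exists_le_sylow
  have htS' : (t : G) ∈ (S' : Subgroup G) := hS' ⟨t, htD, rfl⟩
  have hDS : ∀ d ∈ (D : Subgroup H), (d : G) ∈ (S : Subgroup G) := fun d hd =>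
    hS _ (R.sylow_comm S' (hS' ⟨d, hd, rfl⟩) htS')
  obtain ⟨helem, hcardN, hN⟩ := R.normalizer_facts S
  by_cases htr : Subgroup.normalizer ((D : Subgroup H) : Set H) ≤
      Subgroup.centralizer ((D : Subgroup H) : Set H)
  swap
  · -- `H` contains the normalizer of `S`
    obtain ⟨n, hn, hnC⟩ := SetLike.not_le_iff_exists.mp htr
    obtain ⟨d, hd, hnd⟩ : ∃ d ∈ (D : Subgroup H), d * n ≠ n * d := by
      by_contra hcon
      push Not at hcon
      exact hnC (Subgroup.mem_centralizer_iff.mpr hcon)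
    have hd1 : (d : G) ≠ 1 := fun e => hnd (by
      rw [show d = 1 from Subtype.ext e, one_mul, mul_one])
    have hnd' : n * d * n⁻¹ ∈ (D : Subgroup H) := (Subgroup.mem_normalizer_iff.mp hn d).mp hd
    have hnd1 : (n : G) * d * (n : G)⁻¹ ≠ 1 := fun e => hd1 (conj_eq_one_iff.mp e)
    have hnS : (n : G) ∉ (S : Subgroup G) := fun h =>
      hnd (Subtype.ext (R.sylow_comm S (hDS d hd) h))
    have hnN : (n : G) ∈ Subgroup.normalizer ((S : Subgroup G) : Set G) :=
      mem_normalizer_of_conj fun s hs => R.cent_two S (hDS _ hnd') hnd1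
        ((conj_commute_iff (n : G) s d).mpr (R.sylow_comm S hs (hDS d hd)))
    obtain ⟨hord, htrans⟩ := hN n hnN hnS
    have hSH : ∀ s ∈ (S : Subgroup G), s ∈ H := by
      intro s hs
      by_cases hs1 : s = 1
      · exact hs1 ▸ one_mem H
      obtain ⟨i, rfl⟩ := htrans d (hDS d hd) hd1 s hs hs1
      exact mul_mem (mul_mem (pow_mem n.2 i) d.2) (inv_mem (pow_mem n.2 i))
    have hle : Subgroup.normalizer ((S : Subgroup G) : Set G) ≤ H := by
      rw [← inf_eq_left]
      refine Subgroup.eq_of_le_of_card_ge inf_le_left (Nat.le_of_dvd Nat.card_pos ?_)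
      rw [hcardN]
      refine Nat.Coprime.mul_dvd_of_dvd_of_dvd (Nat.coprime_self_add_left.mpr (Nat.coprime_one_left p)) ?_ ?_
      · rw [← R.card_sylow S]
        exact Subgroup.card_dvd_of_le (le_inf Subgroup.le_normalizer hSH)
      · rw [← hord]
        exact Subgroup.orderOf_dvd_natCard _ ⟨hnN, n.2⟩
    by_cases he : H = Subgroup.normalizer ((S : Subgroup G) : Set G)
    · rw [he]; exact (Sylow.normalizer_normalizer S).le
    · rw [R.normalizer_maximal S hle he]; exact le_top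
  · -- a normal complement `K`, inverted by `t`
    have hc := MonoidHom.ker_transferSylow_isComplement' D htr
    set K := (MonoidHom.transferSylow D htr).ker with hK
    have hKodd : ∀ k ∈ K, Odd (orderOf (k : G)) := fun k hk => by
      rw [Subgroup.orderOf_coe]
      have := (MonoidHom.not_dvd_card_ker_transferSylow D htr)
      exact (Nat.odd_iff.mpr (Nat.two_dvd_ne_zero.mp this)).of_dvd_nat
        (Subgroup.orderOf_dvd_natCard _ hk)
    have hKn : K.Normal := MonoidHom.normal_ker _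
    have hinvK : ∀ d ∈ (D : Subgroup H), d ≠ 1 → ∀ k ∈ K, d * k * d⁻¹ = k⁻¹ := by
      intro d hd hd1 k hk
      have hdd : d * d = 1 := Subtype.ext (helem _ (hDS d hd))
      refine inverts_of_fpf hdd (fun k hk => hKn.conj_mem k hk d) (fun k hk e => ?_) k hk
      obtain ⟨j, hj⟩ := S.isPGroup' ⟨(k : G), R.cent_two S (hDS d hd)
        (fun e' => hd1 (Subtype.ext e')) (congrArg Subtype.val e).symm⟩
      exact Subtype.ext (eq_one_of_odd_of_pow (hKodd k hk) (congrArg Subtype.val hj))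
    have hdec : ∀ h : H, ∃ k ∈ K, ∃ d ∈ (D : Subgroup H), k * d = h := fun h => by
      obtain ⟨⟨⟨k, hk⟩, ⟨d, hd⟩⟩, e⟩ := hc.2 h
      exact ⟨k, hk, d, hd, e⟩
    obtain ⟨k₀, hk₀, hk₀1⟩ : ∃ k ∈ K, k ≠ 1 := by
      by_contra hcon
      push Not at hcon
      refine hna (isMulCommutative_iff.mpr fun a b => Subtype.ext ?_)
      obtain ⟨k, hk, d, hd, rfl⟩ := hdec a
      obtain ⟨k', hk', d', hd', rfl⟩ := hdec b
      rw [hcon k hk, hcon k' hk', one_mul, one_mul]
      exact R.sylow_comm S (hDS d hd) (hDS d' hd')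
    have hk₀G : (k₀ : G) ≠ 1 := fun e => hk₀1 (Subtype.ext e)
    have htne : t ≠ 1 := fun e => ht1 (congrArg Subtype.val e)
    have hD2 : ∀ d ∈ (D : Subgroup H), d = 1 ∨ d = t := by
      intro d hd
      by_contra hcon
      push Not at hcon
      obtain ⟨hd1, hdt⟩ := hcon
      have hw : t⁻¹ * d ∈ (D : Subgroup H) := mul_mem (inv_mem htD) hd
      have hw1 : t⁻¹ * d ≠ 1 := fun e => hdt (inv_mul_eq_one.mp e).symm
      have hcw : t⁻¹ * d * k₀ * (t⁻¹ * d)⁻¹ = k₀ := by
        calc t⁻¹ * d * k₀ * (t⁻¹ * d)⁻¹ = t⁻¹ * (d * k₀ * d⁻¹) * t := by group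
          _ = t⁻¹ * (t * k₀ * t⁻¹) * t := by rw [hinvK d hd hd1 k₀ hk₀, hinvK t htD htne k₀ hk₀]
          _ = k₀ := by group
      rw [hinvK _ hw hw1 k₀ hk₀] at hcw
      exact hk₀1 (Subtype.ext (eq_one_of_odd_of_pow (hKodd k₀ hk₀) (k := 1) (by
        have h2 : k₀ * k₀ = 1 := by nth_rewrite 1 [← hcw]; exact inv_mul_cancel k₀
        rw [pow_one, pow_two]; exact congrArg Subtype.val h2)))
    have hKmem : ∀ h : H, Odd (orderOf (h : G)) → h ∈ K := by
      intro h ho
      obtain ⟨k, hk, d, hd, rfl⟩ := hdec h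
      rcases hD2 d hd with hd1 | hd1 <;> subst hd1
      · rwa [mul_one]
      · have h2 : k * d * (k * d) = 1 := by
          calc k * d * (k * d) = k * (d * k * d⁻¹) * (d * d) := by group
            _ = 1 := by rw [hinvK d htD htne k hk, mul_inv_cancel, one_mul,
              show d * d = 1 from Subtype.ext ht2]
        rw [show k * d = 1 from Subtype.ext (eq_one_of_odd_of_pow ho (k := 1) (by
          rw [pow_one, pow_two]; exact congrArg Subtype.val h2))]
        exact one_mem K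
    have hKcomm : ∀ k ∈ K, (k : G) * k₀ = k₀ * k := by
      intro k hk
      have e := hinvK t htD htne _ (mul_mem hk hk₀)
      have e1 : k⁻¹ * k₀⁻¹ = (k * k₀)⁻¹ := by
        rw [← e, ← hinvK t htD htne k hk, ← hinvK t htD htne k₀ hk₀, ← conj_mul]
      rw [← mul_inv_rev, inv_inj] at e1
      exact congrArg Subtype.val e1.symm
    intro g hg
    rw [Subgroup.mem_normalizer_iff] at hg
    have htinv : (t : G) * k₀ * (t : G)⁻¹ = (k₀ : G)⁻¹ :=
      congrArg Subtype.val (hinvK t htD htne k₀ hk₀)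
    have hgk : g * (k₀ : G) * g⁻¹ ∈ H := (hg _).mp k₀.2
    have hgkK : (⟨_, hgk⟩ : H) ∈ K := hKmem _ (by
      show Odd (orderOf (g * (k₀ : G) * g⁻¹))
      rw [orderOf_conj_eq]; exact hKodd k₀ hk₀)
    obtain ⟨hI, hor⟩ := R.mem_or_mul_mem (g := g) hk₀G (hKodd k₀ hk₀) ht2 ht1 htinv fun c hc =>
      R.ca (g * (k₀ : G) * g⁻¹) _ _ (fun e => hk₀G (conj_eq_one_iff.mp e))
        ((conj_commute_iff g c k₀).mpr hc) (hKcomm _ hgkK).symm
    have key : ∀ c : G, c * (k₀ : G) = k₀ * c → (∀ h : G, h ∈ H ↔ c * h * c⁻¹ ∈ H) → c ∈ H := by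
      intro c hc hcH
      have h1 : c * (t : G) * c⁻¹ ∈ H := (hcH _).mp t.2
      have hc2 : c * c ∈ H := by
        have h2 := mul_mem h1 (inv_mem t.2)
        have e : c * (t : G) * c⁻¹ * (t : G)⁻¹ = c * c := by
          calc c * (t : G) * c⁻¹ * (t : G)⁻¹ = c * ((t : G) * c * (t : G)⁻¹)⁻¹ := by group
            _ = c * c := by rw [hI c hc, inv_inv]
        rwa [e] at h2
      obtain ⟨e, m, hm, he⟩ := Nat.exists_eq_two_pow_mul_odd (orderOf_pos c).ne'
      have hm1 : c ^ m = 1 := R.eq_one_of_two_pow hk₀G (hKodd k₀ hk₀) e _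
        ((Commute.pow_left (show Commute c (k₀ : G) from hc) _).eq)
        (by rw [← pow_mul, mul_comm, ← he, pow_orderOf_eq_one])
      obtain ⟨j, hj⟩ := hm
      have : c = (c * c) ^ (j + 1) := by
        rw [← pow_two, ← pow_mul, show 2 * (j + 1) = m + 1 by omega, pow_succ, hm1, one_mul]
      rw [this]; exact pow_mem hc2 _
    rcases hor with h | h
    · exact key g h hg
    · have h1 : g * (t : G) ∈ H := key _ h fun w => by
        rw [show g * (t : G) * w * (g * (t : G))⁻¹ = g * ((t : G) * w * (t : G)⁻¹) * g⁻¹ by group,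
          ← hg]
        exact ⟨fun hw => mul_mem (mul_mem t.2 hw) (inv_mem t.2), fun hw => by
          have := mul_mem (mul_mem (inv_mem t.2) hw) t.2
          rwa [show (t : G)⁻¹ * ((t : G) * w * (t : G)⁻¹) * t = w by group] at this⟩
      have := mul_mem h1 (inv_mem t.2)
      rwa [mul_inv_cancel_right] at this

end Cfsg.Agent.FGS75.SelfNorm
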