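import Mathlib
import Cfsg.Agent.Transfer.Frobenius
import Cfsg.Agent.Lib.Element
import Cfsg.Agent.PGroup.Frattini

/-!
Simple groups in which every non-abelian subgroup is self-normalizing: the Sylow 2-subgroups are
abelian and so are the centralizers of the involutions.
-/

set_option autoImplicit false

open scoped commutatorElement

set_option maxHeartbeats 800000

namespace Cfsg.Agent.FGS75.SelfNorm

variable {G : Type*} [Group G]

/-- Every non-abelian subgroup is self-normalizing. -/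
def SN (G : Type*) [Group G] : Prop :=
  ∀ H : Subgroup G, ¬ IsMulCommutative H → Subgroup.normalizer (H : Set G) = H

theorem not_comm {H : Subgroup G} {a b : G} (ha : a ∈ H) (hb : b ∈ H) (h : a * b ≠ b * a) :
    ¬ IsMulCommutative H := fun hc =>
  h (congrArg Subtype.val (isMulCommutative_iff.mp hc ⟨a, ha⟩ ⟨b, hb⟩))

theorem comm_apply {H : Subgroup G} (hH : IsMulCommutative H) {a b : G} (ha : a ∈ H) (hb : b ∈ H) :
    a * b = b * a :=
  congrArg Subtype.val (isMulCommutative_iff.mp hH ⟨a, ha⟩ ⟨b, hb⟩)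

theorem mem_normalizer_of_conj [Finite G] {H : Subgroup G} {x : G}
    (hx : ∀ h ∈ H, x * h * x⁻¹ ∈ H) : x ∈ Subgroup.normalizer (H : Set G) := by
  refine Subgroup.mem_normalizer_iff.mpr fun n => ⟨hx n, fun hn => ?_⟩
  have heq : H.map (MulAut.conj x).toMonoidHom = H := by
    refine Subgroup.eq_of_le_of_card_ge ?_ ?_
    · rintro _ ⟨h, hh, rfl⟩
      exact hx h hh
    · exact (Nat.card_congr (H.equivMapOfInjective (MulAut.conj x).toMonoidHom
        (MulAut.conj x).injective).toEquiv).le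
  rw [← heq] at hn
  obtain ⟨h, hh, he⟩ := hn
  have : h = n := mul_left_cancel (mul_right_cancel he)
  rwa [← this]

theorem mem_of_conj [Finite G] (hG : SN G) {H : Subgroup G} (hH : ¬ IsMulCommutative H) {x : G}
    (hx : ∀ h ∈ H, x * h * x⁻¹ ∈ H) : x ∈ H :=
  hG H hH ▸ mem_normalizer_of_conj hx

theorem comm_of_normal_lt (hG : SN G) {H K : Subgroup G} (hKH : K ≤ H) (hne : K ≠ H)
    (hn : H ≤ Subgroup.normalizer (K : Set G)) : IsMulCommutative K := by
  by_contra hK
  exact hne (le_antisymm hKH (hG K hK ▸ hn))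

/-- `d⁻¹ · y d y⁻¹` for `d` in the abelian subgroup `D`. -/
def dispSub (D : Subgroup G) (hD : IsMulCommutative D) (y : G) (hy : ∀ d ∈ D, y * d * y⁻¹ ∈ D) :
    Subgroup G where
  carrier := {x | ∃ d ∈ D, d⁻¹ * (y * d * y⁻¹) = x}
  one_mem' := ⟨1, one_mem D, by group⟩
  mul_mem' := by
    rintro _ _ ⟨a, ha, rfl⟩ ⟨b, hb, rfl⟩
    refine ⟨a * b, mul_mem ha hb, ?_⟩
    calc (a * b)⁻¹ * (y * (a * b) * y⁻¹) = b⁻¹ * (a⁻¹ * (y * a * y⁻¹)) * (y * b * y⁻¹) := by group
      _ = (a⁻¹ * (y * a * y⁻¹)) * b⁻¹ * (y * b * y⁻¹) := by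
          rw [comm_apply hD (inv_mem hb) (mul_mem (inv_mem ha) (hy a ha))]
      _ = a⁻¹ * (y * a * y⁻¹) * (b⁻¹ * (y * b * y⁻¹)) := mul_assoc _ _ _
  inv_mem' := by
    rintro _ ⟨a, ha, rfl⟩
    refine ⟨a⁻¹, inv_mem ha, ?_⟩
    calc a⁻¹⁻¹ * (y * a⁻¹ * y⁻¹) = a * (y * a * y⁻¹)⁻¹ := by group
      _ = (y * a * y⁻¹)⁻¹ * a := comm_apply hD ha (inv_mem (hy a ha))
      _ = (a⁻¹ * (y * a * y⁻¹))⁻¹ := by group

theorem dispSub_le {D : Subgroup G} {hD : IsMulCommutative D} {y : G}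
    {hy : ∀ d ∈ D, y * d * y⁻¹ ∈ D} : dispSub D hD y hy ≤ D := by
  rintro _ ⟨d, hd, rfl⟩
  exact mul_mem (inv_mem hd) (hy d hd)

theorem conj_mem_dispSub {D : Subgroup G} {hD : IsMulCommutative D} {y : G}
    {hy : ∀ d ∈ D, y * d * y⁻¹ ∈ D} {s : G} (hs : s * y = y * s)
    (hsD : ∀ d ∈ D, s * d * s⁻¹ ∈ D) : ∀ m ∈ dispSub D hD y hy, s * m * s⁻¹ ∈ dispSub D hD y hy := by
  rintro _ ⟨d, hd, rfl⟩
  refine ⟨s * d * s⁻¹, hsD d hd, ?_⟩
  calc (s * d * s⁻¹)⁻¹ * (y * (s * d * s⁻¹) * y⁻¹)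
      = s * d⁻¹ * s⁻¹ * ((y * s) * d * (y * s)⁻¹) := by group
    _ = s * (d⁻¹ * (y * d * y⁻¹)) * s⁻¹ := by rw [← hs]; group

/-- An element fixed by `y` and displaced from `D` by `y` is trivial if the orders are coprime. -/
theorem eq_one_of_disp_fixed {D : Subgroup G} {y m : G}
    (hy : ∀ d ∈ D, y * d * y⁻¹ ∈ D) {d : G} (hd : d ∈ D) (hm : d⁻¹ * (y * d * y⁻¹) = m)
    (hfix : y * m = m * y) (hco : (orderOf y).Coprime (orderOf m)) : m = 1 := by
  have hmD : m ∈ D := hm ▸ mul_mem (inv_mem hd) (hy d hd)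
  have h1 : y * d * y⁻¹ = d * m := by rw [← hm]; group
  have key : ∀ j : ℕ, y ^ j * d * (y ^ j)⁻¹ = d * m ^ j := by
    intro j
    induction j with
    | zero => simp
    | succ j ih =>
      have hc : y * m ^ j * y⁻¹ = m ^ j := by
        rw [(Commute.pow_right (show Commute y m from hfix) j).eq, mul_inv_cancel_right]
      calc y ^ (j + 1) * d * (y ^ (j + 1))⁻¹ = y * (y ^ j * d * (y ^ j)⁻¹) * y⁻¹ := by
            rw [pow_succ']; group
        _ = (y * d * y⁻¹) * (y * m ^ j * y⁻¹) := by rw [ih]; group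
        _ = d * m ^ (j + 1) := by rw [hc, h1, pow_succ', mul_assoc]
  have h := key (orderOf y)
  rw [pow_orderOf_eq_one, inv_one, one_mul, mul_one] at h
  exact orderOf_eq_one_iff.mp (Nat.eq_one_of_dvd_coprimes hco
    (orderOf_dvd_of_pow_eq_one (left_eq_mul.mp h)) dvd_rfl)

theorem exists_mul_zpow {M : Subgroup G} {y x : G} (hy : y ∈ Subgroup.normalizer (M : Set G))
    (hx : x ∈ M ⊔ Subgroup.zpowers y) : ∃ m ∈ M, ∃ j : ℤ, x = m * y ^ j := by
  rw [← SetLike.mem_coe,
    Subgroup.coe_mul_of_right_le_normalizer_left M _ (Subgroup.zpowers_le.mpr hy)] at hx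
  obtain ⟨m, hm, z, hz, rfl⟩ := hx
  obtain ⟨j, rfl⟩ := Subgroup.mem_zpowers_iff.mp hz
  exact ⟨m, hm, j, rfl⟩

theorem sup_zpowers_conj_mem {M : Subgroup G} {y s : G} (hs : s * y = y * s)
    (hsM : ∀ m ∈ M, s * m * s⁻¹ ∈ M) :
    ∀ h ∈ M ⊔ Subgroup.zpowers y, s * h * s⁻¹ ∈ M ⊔ Subgroup.zpowers y := by
  intro h hh
  have hle : (M ⊔ Subgroup.zpowers y).map (MulAut.conj s).toMonoidHom ≤ M ⊔ Subgroup.zpowers y := by
    rw [Subgroup.map_sup]
    refine sup_le_sup ?_ ?_
    · rintro _ ⟨m, hm, rfl⟩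
      exact hsM m hm
    · rw [MonoidHom.map_zpowers]
      refine (congrArg Subgroup.zpowers ?_).le
      show s * y * s⁻¹ = y
      rw [hs, mul_inv_cancel_right]
  exact hle ⟨h, hh, rfl⟩

variable [Finite G]

/-- The elements of order prime to `p` of a finite abelian subgroup. -/
def coprimePart (p : ℕ) (K : Subgroup G) (hK : IsMulCommutative K) : Subgroup G where
  carrier := {x | x ∈ K ∧ (orderOf x).Coprime p}
  one_mem' := ⟨one_mem K, by rw [orderOf_one]; exact Nat.coprime_one_left p⟩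
  mul_mem' := by
    rintro a b ⟨ha, ha'⟩ ⟨hb, hb'⟩
    refine ⟨mul_mem ha hb, Nat.Coprime.of_dvd_left ?_ (ha'.mul_left hb')⟩
    exact ((show Commute a b from comm_apply hK ha hb).orderOf_mul_dvd_lcm).trans
      (Nat.lcm_dvd_mul _ _)
  inv_mem' := by
    rintro a ⟨ha, ha'⟩
    exact ⟨inv_mem ha, by rwa [orderOf_inv]⟩

theorem conj_mem_coprimePart {p : ℕ} {K : Subgroup G} {hK : IsMulCommutative K} {g : G}
    (hg : ∀ k ∈ K, g * k * g⁻¹ ∈ K) :
    ∀ x ∈ coprimePart p K hK, g * x * g⁻¹ ∈ coprimePart p K hK := by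
  rintro x ⟨hx, hx'⟩
  refine ⟨hg x hx, ?_⟩
  rwa [show g * x * g⁻¹ = MulAut.conj g x from rfl, MulEquiv.orderOf_eq]

/-- The 2-elements of an abelian subgroup. -/
def twoPart (C : Subgroup G) (hC : IsMulCommutative C) : Subgroup G where
  carrier := {x | x ∈ C ∧ ∃ k, orderOf x = 2 ^ k}
  one_mem' := ⟨one_mem C, 0, by simp⟩
  mul_mem' := by
    rintro a b ⟨ha, i, hi⟩ ⟨hb, j, hj⟩
    refine ⟨mul_mem ha hb, ?_⟩
    have h := (show Commute a b from comm_apply hC ha hb).orderOf_mul_dvd_lcm.trans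
      (Nat.lcm_dvd_mul _ _)
    rw [hi, hj, ← pow_add] at h
    obtain ⟨k, -, hk⟩ := (Nat.dvd_prime_pow Nat.prime_two).mp h
    exact ⟨k, hk⟩
  inv_mem' := by
    rintro a ⟨ha, i, hi⟩
    exact ⟨inv_mem ha, i, by rw [orderOf_inv, hi]⟩

theorem isPGroup_twoPart (C : Subgroup G) (hC : IsMulCommutative C) : IsPGroup 2 (twoPart C hC) := by
  rintro ⟨y, hy, k, hk⟩
  exact ⟨k, Subtype.ext (by rw [SubmonoidClass.coe_pow, ← hk, pow_orderOf_eq_one]; rfl)⟩

/-- A normal subgroup meeting a Sylow 2-subgroup in index 2 lies, with all elements of odd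
order, in a normal subgroup of index 2. -/
theorem exists_index_two {X : Type*} [Group X] [Finite X] (C : Subgroup X) [C.Normal]
    (Q : Sylow 2 X) (h : C.relIndex (Q : Subgroup X) = 2) :
    ∃ K : Subgroup X, K.Normal ∧ K ≠ ⊤ ∧ C ≤ K ∧ ∀ u : X, (orderOf u).Coprime 2 → u ∈ K := by
  haveI : Fact (Nat.Prime 2) := ⟨Nat.prime_two⟩
  set π := QuotientGroup.mk' C with hπ
  set QX : Sylow 2 (X ⧸ C) := Q.mapSurjective (QuotientGroup.mk'_surjective C) with hQX
  have hcard : Nat.card (QX : Subgroup (X ⧸ C)) = 2 := by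
    refine Eq.trans ?_ h
    rw [hQX, Sylow.coe_mapSurjective, ← Subgroup.relIndex_ker (K := (Q : Subgroup X)) (f := QuotientGroup.mk' C),
      QuotientGroup.ker_mk']
  have hcy : IsCyclic (QX : Subgroup (X ⧸ C)) := isCyclic_of_prime_card hcard
  have h2X : 2 ∣ Nat.card (X ⧸ C) := hcard ▸ Subgroup.card_subgroup_dvd_card _
  have hmin : (Nat.card (X ⧸ C)).minFac = 2 := (Nat.minFac_eq_two_iff _).mpr h2X
  set f := MonoidHom.transferSylow QX (hcy.normalizer_le_centralizer hmin)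
  have hK : f.ker.IsComplement' (QX : Subgroup _) := hcy.isComplement' hmin
  have hidx : f.ker.index = 2 := hK.symm.index_eq_card.trans hcard
  refine ⟨f.ker.comap π, inferInstance, fun htop => ?_, fun c hc => ?_, fun u hu => ?_⟩
  · have h2 := Subgroup.index_comap_of_surjective (f := π) f.ker (QuotientGroup.mk'_surjective C)
    rw [htop, Subgroup.index_top, hidx] at h2
    omega
  · rw [Subgroup.mem_comap, hπ, QuotientGroup.mk'_apply, (QuotientGroup.eq_one_iff c).mpr hc]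
    exact one_mem _
  · refine Subgroup.mem_comap.mpr (Element.mem_of_coprime_index ?_)
    rw [hidx]
    exact hu.of_dvd_left (orderOf_map_dvd π u)

variable [IsSimpleGroup G]

/-- The Sylow 2-subgroups are abelian: the last step. -/
theorem sylow_two_comm_step (hG : SN G) {Q : Sylow 2 G} {M' D : Subgroup G} {u : G}
    (hM'c : IsMulCommutative M') (hDM' : D ≤ M') (hM'Q : M' ≤ (Q : Subgroup G))
    (hidx : M'.relIndex (Q : Subgroup G) = 2)
    (hmax : ∀ x ∈ (Q : Subgroup G), (∀ d ∈ M', d * x = x * d) → x ∈ M')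
    (hQM' : (Q : Subgroup G) ≤ Subgroup.normalizer (M' : Set G))
    (hu : u ∈ Subgroup.normalizer (M' : Set G)) (huo : (orderOf u).Coprime 2)
    (huC : u ∉ Subgroup.centralizer (D : Set G)) : False := by
  set N₁ := Subgroup.normalizer (M' : Set G) with hN₁
  set C₁ := Subgroup.centralizer (M' : Set G) with hC₁
  have hC₁N : C₁ ≤ N₁ := fun x hx => mem_normalizer_of_conj fun d hd => by
    rw [← (Subgroup.mem_centralizer_iff.mp hx d hd), mul_inv_cancel_right]; exact hd
  haveI : (C₁.subgroupOf N₁).Normal := by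
    refine (Subgroup.normal_subgroupOf_iff_le_normalizer hC₁N).mpr fun n hn =>
      mem_normalizer_of_conj fun x hx => ?_
    rw [hC₁, Subgroup.mem_centralizer_iff]
    intro d hd
    have h1 : n⁻¹ * d * n ∈ M' := by
      have := (Subgroup.mem_normalizer_iff.mp (inv_mem hn) d).mp hd
      rwa [inv_inv] at this
    have h2 := Subgroup.mem_centralizer_iff.mp hx _ h1
    calc d * (n * x * n⁻¹) = n * ((n⁻¹ * d * n) * x) * n⁻¹ := by group
      _ = n * (x * (n⁻¹ * d * n)) * n⁻¹ := by rw [h2]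
      _ = n * x * n⁻¹ * d := by group
  have hrel : (C₁.subgroupOf N₁).relIndex ((Q.subtype hQM' : Sylow 2 N₁) : Subgroup N₁) = 2 := by
    rw [Sylow.coe_subtype, Subgroup.relIndex_subgroupOf hQM']
    refine Eq.trans ?_ hidx
    refine (Subgroup.inf_relIndex_right C₁ (Q : Subgroup G)).symm.trans ?_
    refine congrArg (fun H : Subgroup G => H.relIndex (Q : Subgroup G)) (le_antisymm ?_ ?_)
    · rintro x ⟨hx, hxQ⟩
      exact hmax x hxQ (Subgroup.mem_centralizer_iff.mp hx)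
    · exact fun x hx => ⟨Subgroup.mem_centralizer_iff.mpr fun d hd => comm_apply hM'c hd hx, hM'Q hx⟩
  obtain ⟨K, hKn, hKne, hCK, hodd⟩ := exists_index_two (C₁.subgroupOf N₁) (Q.subtype hQM') hrel
  set K' := K.map N₁.subtype with hK'
  have hKc : IsMulCommutative K' := by
    refine comm_of_normal_lt hG (Subgroup.map_subtype_le K) (fun h => hKne ?_) fun n hn =>
      mem_normalizer_of_conj fun x hx => ?_
    · exact Subgroup.map_injective N₁.subtype_injective
        (by rw [← hK', h, ← MonoidHom.range_eq_map, Subgroup.range_subtype])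
    · obtain ⟨x', hx', rfl⟩ := hx
      exact ⟨⟨n, hn⟩ * x' * ⟨n, hn⟩⁻¹, hKn.conj_mem x' hx' _, rfl⟩
  have hu1 : u ∈ K' := ⟨⟨u, hu⟩, hodd _ (by rwa [Subgroup.orderOf_mk]), rfl⟩
  have hDK : D ≤ K' := fun d hd => by
    have hdC : d ∈ C₁ := Subgroup.mem_centralizer_iff.mpr fun e he => comm_apply hM'c he (hDM' hd)
    exact ⟨⟨d, hC₁N hdC⟩, hCK (Subgroup.mem_subgroupOf.mpr hdC), rfl⟩
  exact huC (Subgroup.mem_centralizer_iff.mpr fun d hd => comm_apply hKc (hDK hd) hu1)


theorem sylow_two_ne_normal_complement (hna : ¬ IsMulCommutative G) (heven : 2 ∣ Nat.card G) :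
    ¬ Cfsg.HasNormalPComplement 2 G := by
  haveI : Fact (Nat.Prime 2) := ⟨Nat.prime_two⟩
  rintro ⟨P, N, hN, hc⟩
  rcases Subgroup.Normal.eq_bot_or_eq_top hN with h | h
  · subst h
    have hP : (P : Subgroup G) = ⊤ := Subgroup.isComplement'_bot_left.mp hc
    have hGp : IsPGroup 2 G := fun g => by
      obtain ⟨k, hk⟩ := P.2 ⟨g, hP ▸ Subgroup.mem_top g⟩
      exact ⟨k, congrArg Subtype.val hk⟩
    haveI := hGp.isNilpotent
    haveI : Nontrivial G := by
      rw [← Finite.one_lt_card_iff_nontrivial]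
      exact lt_of_lt_of_le one_lt_two (Nat.le_of_dvd Nat.card_pos heven)
    haveI := hGp.center_nontrivial
    rcases Subgroup.Normal.eq_bot_or_eq_top (inferInstance : (Subgroup.center G).Normal) with h | h
    · exact (Subgroup.nontrivial_iff_ne_bot _).mp inferInstance h
    · exact hna (isMulCommutative_iff.mpr fun a b =>
        (Subgroup.mem_center_iff.mp (h ▸ Subgroup.mem_top b) a))
  · subst h
    have hP : (P : Subgroup G) = ⊥ := Subgroup.isComplement'_top_left.mp hc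
    have := P.dvd_card_of_dvd_card heven
    rw [hP, Subgroup.card_bot] at this
    omega

/-- The Sylow 2-subgroups are abelian. -/
theorem sylow_two_comm (hG : SN G) (hna : ¬ IsMulCommutative G) (heven : 2 ∣ Nat.card G)
    (S : Sylow 2 G) : IsMulCommutative (S : Subgroup G) := by
  haveI : Fact (Nat.Prime 2) := ⟨Nat.prime_two⟩
  by_contra hS
  -- a local subgroup without normal complement
  have hloc : ∃ D : Subgroup G, IsPGroup 2 D ∧ D ≠ ⊥ ∧ ∃ u ∈ Subgroup.normalizer (D : Set G),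
      (orderOf u).Coprime 2 ∧ u ∉ Subgroup.centralizer (D : Set G) := by
    by_contra hno
    push Not at hno
    exact sylow_two_ne_normal_complement hna heven
      (Transfer.hasNormalPComplement_of_coprime_centralize fun D hD hD1 g hg ho =>
        hno D hD hD1 g hg ho)
  obtain ⟨D, hD, hD1, u, huN, huo, huC⟩ := hloc
  set N := Subgroup.normalizer (D : Set G) with hN
  obtain ⟨R⟩ : Nonempty (Sylow 2 N) := inferInstance
  obtain ⟨Q, hQ⟩ := ((R.2.map N.subtype) : IsPGroup 2 _).exists_le_sylow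
  -- normal 2-subgroups of `N` lie in `Q`
  have hinQ : ∀ V : Subgroup G, V ≤ N → IsPGroup 2 V → N ≤ Subgroup.normalizer (V : Set G) →
      V ≤ (Q : Subgroup G) := by
    intro V hVN hV hVn x hx
    haveI : (V.subgroupOf N).Normal := (Subgroup.normal_subgroupOf_iff_le_normalizer hVN).mpr hVn
    have h1 : V.subgroupOf N ≤ (R : Subgroup N) := IsPGroup.le_sylow_of_normal (N := V.subgroupOf N) hV.comap_subtype R
    exact hQ ⟨⟨x, hVN hx⟩, h1 (show (⟨x, hVN hx⟩ : N) ∈ V.subgroupOf N from hx), rfl⟩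
  have hDQ : D ≤ (Q : Subgroup G) := hinQ D Subgroup.le_normalizer hD le_rfl
  obtain ⟨g, hg⟩ := MulAction.exists_smul_eq G S Q
  have hQnc : ¬ IsMulCommutative (Q : Subgroup G) := fun hc => hS
    (isMulCommutative_iff.mpr fun a b => (Sylow.equiv S Q).injective
      (by rw [map_mul, map_mul]; exact isMulCommutative_iff.mp hc _ _))
  have hDc : IsMulCommutative D := by
    by_contra hDc
    have huD : u ∈ D := hG D hDc ▸ huN
    obtain ⟨k, hk⟩ := Element.orderOf_eq_pow_of_mem_isPGroup hD huD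
    have : u = 1 := orderOf_eq_one_iff.mp (Nat.eq_one_of_dvd_coprimes
      (huo.symm.pow_left k) hk.dvd dvd_rfl)
    exact huC (this ▸ one_mem _)
  -- the centraliser of `D`
  set C := Subgroup.centralizer (D : Set G) with hC
  have hCN : C ≤ N := fun x hx => mem_normalizer_of_conj fun d hd => by
    rw [← (Subgroup.mem_centralizer_iff.mp hx d hd), mul_inv_cancel_right]; exact hd
  have hNC : N ≤ Subgroup.normalizer (C : Set G) := fun n hn => mem_normalizer_of_conj fun x hx => by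
    rw [hC, Subgroup.mem_centralizer_iff]
    intro d hd
    have h1 : n⁻¹ * d * n ∈ D := by
      have := (Subgroup.mem_normalizer_iff.mp (inv_mem hn) d).mp hd
      rwa [inv_inv] at this
    have h2 := Subgroup.mem_centralizer_iff.mp hx _ h1
    calc d * (n * x * n⁻¹) = n * ((n⁻¹ * d * n) * x) * n⁻¹ := by group
      _ = n * (x * (n⁻¹ * d * n)) * n⁻¹ := by rw [h2]
      _ = n * x * n⁻¹ * d := by group
  have hCc : IsMulCommutative C :=
    comm_of_normal_lt hG hCN (fun h => huC (h ▸ huN)) hNC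
  -- a maximal subgroup of `Q` above `D`
  have hDne : D.subgroupOf (Q : Subgroup G) ≠ ⊤ := fun h =>
    hQnc (le_antisymm hDQ (Subgroup.subgroupOf_eq_top.mp h) ▸ hDc)
  obtain ⟨M, hM, hDM⟩ := (eq_top_or_exists_le_coatom _).resolve_left hDne
  haveI := Q.2.isNilpotent
  haveI hMn : M.Normal := PGroup.normal_of_isCoatom Q.2 hM
  set M' := M.map (Q : Subgroup G).subtype with hM'
  have hM'Q : M' ≤ (Q : Subgroup G) := Subgroup.map_subtype_le M
  have hQM' : (Q : Subgroup G) ≤ Subgroup.normalizer (M' : Set G) := fun x hx =>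
    mem_normalizer_of_conj fun y hy => by
      obtain ⟨y', hy', rfl⟩ := hy
      exact ⟨⟨x, hx⟩ * y' * ⟨x, hx⟩⁻¹, hMn.conj_mem y' hy' _, rfl⟩
  have hM'ne : M' ≠ (Q : Subgroup G) := fun h => hM.1 (Subgroup.map_injective
    (Q : Subgroup G).subtype_injective (by rw [← hM', h, ← MonoidHom.range_eq_map, Subgroup.range_subtype]))
  have hM'c : IsMulCommutative M' := comm_of_normal_lt hG hM'Q hM'ne hQM'
  have hDM' : D ≤ M' := fun d hd => ⟨⟨d, hDQ hd⟩, hDM (Subgroup.mem_subgroupOf.mpr hd), rfl⟩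
  have hM'C : M' ≤ C := fun x hx =>
    Subgroup.mem_centralizer_iff.mpr fun d hd => comm_apply hM'c (hDM' hd) hx
  -- `M'` is the set of 2-elements of `C`
  have hM'max : ∀ x ∈ C, x ∈ (Q : Subgroup G) → x ∈ M' := by
    intro x hxC hxQ
    by_contra hxM
    have htop : M ⊔ Subgroup.zpowers ⟨x, hxQ⟩ = ⊤ := hM.2 _ (by
      refine lt_of_le_of_ne le_sup_left fun h => hxM ⟨⟨x, hxQ⟩, ?_, rfl⟩
      rw [h]; exact Subgroup.mem_sup_right (Subgroup.mem_zpowers _))
    have hle : (Q : Subgroup G) ≤ C := by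
      rw [← Subgroup.range_subtype (Q : Subgroup G), MonoidHom.range_eq_map, ← htop,
        Subgroup.map_sup, sup_le_iff]
      refine ⟨hM'C, ?_⟩
      rw [MonoidHom.map_zpowers, Subgroup.zpowers_le]
      exact hxC
    exact hQnc (isMulCommutative_iff.mpr fun a b => Subtype.ext (comm_apply hCc (hle a.2) (hle b.2)))
  have hNM : N ≤ Subgroup.normalizer (M' : Set G) := by
    intro n hn
    refine mem_normalizer_of_conj fun x hx => hM'max _ ?_ ?_
    · exact (Subgroup.mem_normalizer_iff.mp (hNC hn) x).mp (hM'C hx)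
    · -- the 2-part of `C` is a normal 2-subgroup of `N`
      refine hinQ (twoPart C hCc) (fun y hy => hCN hy.1) (isPGroup_twoPart C hCc) ?_ ⟨?_, ?_⟩
      · intro m hm
        refine mem_normalizer_of_conj fun y hy => ?_
        obtain ⟨hyC, k, hk⟩ := hy
        exact ⟨(Subgroup.mem_normalizer_iff.mp (hNC hm) y).mp hyC, k,
          by rw [show m * y * m⁻¹ = MulAut.conj m y from rfl, MulEquiv.orderOf_eq, hk]⟩
      · exact (Subgroup.mem_normalizer_iff.mp (hNC hn) x).mp (hM'C hx)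
      · obtain ⟨k, hk⟩ := Element.orderOf_eq_pow_of_mem_isPGroup Q.2 (hM'Q hx)
        exact ⟨k, by rw [show n * x * n⁻¹ = MulAut.conj n x from rfl, MulEquiv.orderOf_eq, hk]⟩
  refine sylow_two_comm_step hG hM'c hDM' hM'Q ?_ (fun x hxQ hx => hM'max x
    (Subgroup.mem_centralizer_iff.mpr fun d hd => hx d (hDM' hd)) hxQ) hQM' (hNM huN) huo huC
  rw [Subgroup.relIndex, hM', Subgroup.subgroupOf,
    Subgroup.comap_map_eq_self_of_injective (Q : Subgroup G).subtype_injective]
  exact PGroup.index_of_isCoatom Q.2 hM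

end Cfsg.Agent.FGS75.SelfNorm
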