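import Cfsg.Agent.FGS75.SelfNorm.Basic

/-!
The centralizers of involutions are abelian.
-/

set_option autoImplicit false

open scoped commutatorElement

namespace Cfsg.Agent.FGS75.SelfNorm

variable {G : Type*} [Group G] [Finite G]

/-- A central element of a group with abelian Sylow subgroup of the same prime lies outside the
commutator subgroup. -/
theorem not_mem_commutator_of_central {X : Type*} [Group X] [Finite X] {p : ℕ} [Fact p.Prime]
    (S : Sylow p X) (hS : IsMulCommutative (S : Subgroup X)) {t : X} (ht : t ∈ Subgroup.center X)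
    (hto : orderOf t = p) : t ∉ commutator X := by
  intro htc
  letI : CommGroup (S : Subgroup X) :=
    { (inferInstance : Group (S : Subgroup X)) with mul_comm := isMulCommutative_iff.mp hS }
  let ϕ : (S : Subgroup X) →* (S : Subgroup X) := MonoidHom.id _
  have key : ∀ (k : ℕ) (g₀ : X), g₀⁻¹ * t ^ k * g₀ ∈ (S : Subgroup X) → g₀⁻¹ * t ^ k * g₀ = t ^ k := by
    intro k g₀ _
    rw [Subgroup.mem_center_iff.mp (pow_mem ht k) g₀⁻¹, inv_mul_cancel_right]
  have h := MonoidHom.transfer_eq_pow ϕ t key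
  have h1 : MonoidHom.transfer ϕ t = 1 :=
    (Abelianization.commutator_subset_ker (MonoidHom.transfer ϕ)) htc
  rw [h1] at h
  have h3 : t ^ (S : Subgroup X).index = 1 := (congrArg Subtype.val h).symm
  exact S.not_dvd_index (hto.symm.dvd.trans (orderOf_dvd_of_pow_eq_one h3))

variable [IsSimpleGroup G]

theorem sylow_two_not_cyclic (hna : ¬ IsMulCommutative G) (heven : 2 ∣ Nat.card G) (S : Sylow 2 G) :
    ¬ IsCyclic (S : Subgroup G) := fun hc =>
  haveI : Fact (Nat.Prime 2) := ⟨Nat.prime_two⟩
  sylow_two_ne_normal_complement hna heven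
    (Transfer.hasNormalPComplement_of_normalizer_le_centralizer S
      (hc.normalizer_le_centralizer ((Nat.minFac_eq_two_iff _).mpr heven)))

/-- Case `p = 2`. -/
theorem centralizer_comm_two (hG : SN G) (hna : ¬ IsMulCommutative G) (heven : 2 ∣ Nat.card G)
    {C K : Subgroup G} (hCna : ¬ IsMulCommutative C) (hKC : K ≤ C) (hKne : K ≠ C)
    (hKn : ∀ g ∈ C, ∀ k ∈ K, g * k * g⁻¹ ∈ K) (hidx : K.relIndex C = 2)
    (S : Sylow 2 G) (hSC : (S : Subgroup G) ≤ C) : False := by
  haveI : Fact (Nat.Prime 2) := ⟨Nat.prime_two⟩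
  have hSc := sylow_two_comm hG hna heven S
  have hKc : IsMulCommutative K := comm_of_normal_lt hG hKC hKne
    fun g hg => mem_normalizer_of_conj (hKn g hg)
  obtain ⟨y, hyS, hyK⟩ : ∃ y ∈ (S : Subgroup G), y ∉ K := by
    by_contra hno
    push Not at hno
    refine S.not_dvd_index (dvd_trans (hidx ▸ ?_) (Subgroup.index_dvd_of_le hno))
    exact Subgroup.relIndex_dvd_index_of_le hKC
  have hyC := hSC hyS
  -- the two parts of `K`
  have hK2 : twoPart K hKc ≤ (S : Subgroup G) := by
    haveI : ((twoPart K hKc).subgroupOf C).Normal := by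
      refine (Subgroup.normal_subgroupOf_iff_le_normalizer (H := twoPart K hKc) (fun x hx => hKC hx.1)).mpr
        fun g hg => mem_normalizer_of_conj fun x hx => ?_
      obtain ⟨hxK, i, hi⟩ := hx
      exact ⟨hKn g hg x hxK, i, by
        rw [show g * x * g⁻¹ = MulAut.conj g x from rfl, MulEquiv.orderOf_eq, hi]⟩
    have h := IsPGroup.le_sylow_of_normal (N := (twoPart K hKc).subgroupOf C)
      (isPGroup_twoPart K hKc).comap_subtype (S.subtype hSC)
    intro x hx
    exact h (show (⟨x, hKC hx.1⟩ : C) ∈ (twoPart K hKc).subgroupOf C from hx)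
  set D := coprimePart 2 K hKc with hD
  have hSD : ∀ s ∈ (S : Subgroup G), ∀ d ∈ D, s * d * s⁻¹ ∈ D := fun s hs =>
    conj_mem_coprimePart (hKn s (hSC hs))
  have hDc : IsMulCommutative D := isMulCommutative_iff.mpr fun a b =>
    Subtype.ext (comm_apply hKc a.2.1 b.2.1)
  -- `y` does not centralise `D`
  have hyD : ∃ d ∈ D, y * d * y⁻¹ ≠ d := by
    by_contra hno
    push Not at hno
    apply hCna
    have hyK' : ∀ k ∈ K, y * k = k * y := by
      intro k hk
      obtain ⟨e, he⟩ := Element.orderOf_pPart_eq_pow Nat.prime_two k, rfl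
      have h1 : Element.pPart 2 k ∈ twoPart K hKc :=
        ⟨(Subgroup.zpowers_le.mpr hk) (Element.pPart_mem_zpowers 2 k), _,
          Element.orderOf_pPart_eq_pow Nat.prime_two k⟩
      have h2 : Element.pComplPart 2 k ∈ D :=
        ⟨(Subgroup.zpowers_le.mpr hk) (Element.pComplPart_mem_zpowers 2 k),
          Element.coprime_orderOf_pComplPart Nat.prime_two k⟩
      have e1 : Commute y (Element.pPart 2 k) := comm_apply hSc hyS (hK2 h1)
      have e2 : Commute y (Element.pComplPart 2 k) := mul_inv_eq_iff_eq_mul.mp (hno _ h2)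
      have := e1.mul_right e2
      rw [Element.pPart_mul_pComplPart] at this
      exact this.eq
    have hmul : ∀ a ∈ C, a ∈ K ∨ ∃ k ∈ K, a = k * y := by
      intro a ha
      by_cases haK : a ∈ K
      · exact Or.inl haK
      refine Or.inr ⟨a * y⁻¹, ?_, by rw [inv_mul_cancel_right]⟩
      have hi : (K.subgroupOf C).index = 2 := hidx
      have h := Subgroup.mul_mem_iff_of_index_two hi (a := ⟨a, ha⟩) (b := ⟨y, hyC⟩⁻¹)
      simp only [Subgroup.mem_subgroupOf, Subgroup.coe_mul, Subgroup.coe_inv, inv_mem_iff] at h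
      exact h.mpr (iff_of_false haK hyK)
    refine isMulCommutative_iff.mpr fun a b => Subtype.ext ?_
    show (a : G) * b = b * a
    rcases hmul a a.2 with ha | ⟨k, hk, ha⟩ <;> rcases hmul b b.2 with hb | ⟨l, hl, hb⟩
    · exact comm_apply hKc ha hb
    · rw [hb]
      exact (((show Commute (a : G) l from comm_apply hKc ha hl)).mul_right
        (show Commute (a : G) y from (hyK' a ha).symm)).eq
    · rw [ha]
      exact ((show Commute k (b : G) from comm_apply hKc hk hb).mul_left
        (show Commute y (b : G) from hyK' b hb)).eq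
    · rw [ha, hb]
      exact (((show Commute k l from comm_apply hKc hk hl).mul_right
          (show Commute k y from (hyK' k hk).symm)).mul_left
        ((show Commute y l from hyK' l hl).mul_right (Commute.refl y))).eq
  obtain ⟨d, hd, hdy⟩ := hyD
  set M := dispSub D hDc y (hSD y hyS) with hM
  set m := d⁻¹ * (y * d * y⁻¹) with hm
  have hmM : m ∈ M := ⟨d, hd, rfl⟩
  obtain ⟨e, he⟩ := Element.orderOf_eq_pow_of_mem_isPGroup S.2 hyS
  have hnc : ¬ IsMulCommutative (M ⊔ Subgroup.zpowers y : Subgroup G) := by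
    refine not_comm (Subgroup.mem_sup_right (Subgroup.mem_zpowers y))
      (Subgroup.mem_sup_left hmM) fun hfix => hdy ?_
    have hmo : (orderOf m).Coprime 2 := (dispSub_le hmM).2
    have := eq_one_of_disp_fixed (hSD y hyS) hd hm.symm hfix (he ▸ hmo.symm.pow_left e)
    rw [hm, inv_mul_eq_one] at this
    exact this.symm
  have hSle : (S : Subgroup G) ≤ Subgroup.zpowers y := by
    intro s hs
    have hsy : s * y = y * s := comm_apply hSc hs hyS
    have hsmem := mem_of_conj hG hnc (sup_zpowers_conj_mem hsy (conj_mem_dispSub hsy (hSD s hs)))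
    obtain ⟨m', hm', j, hj⟩ := exists_mul_zpow (mem_normalizer_of_conj
      (conj_mem_dispSub rfl (hSD y hyS))) hsmem
    have hm'S : m' ∈ (S : Subgroup G) := by
      rw [eq_mul_inv_of_mul_eq hj.symm]
      exact mul_mem hs (inv_mem (zpow_mem hyS j))
    obtain ⟨i, hi⟩ := Element.orderOf_eq_pow_of_mem_isPGroup S.2 hm'S
    have : m' = 1 := orderOf_eq_one_iff.mp (Nat.eq_one_of_dvd_coprimes
      ((dispSub_le hm').2.symm.pow_left i) hi.dvd dvd_rfl)
    rw [hj, this, one_mul]
    exact zpow_mem (Subgroup.mem_zpowers y) j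
  exact sylow_two_not_cyclic hna heven S (isCyclic_of_le hSle)
where
  isCyclic_of_le {A : Subgroup G} {y : G} (h : A ≤ Subgroup.zpowers y) : IsCyclic A :=
    isCyclic_of_injective (Subgroup.inclusion h) (Subgroup.inclusion_injective h)

/-- Case `p` odd. -/
theorem centralizer_comm_odd (hG : SN G) {p : ℕ} [hp : Fact p.Prime] (hp2 : p ≠ 2)
    {C K : Subgroup G} (hCna : ¬ IsMulCommutative C) (hKC : K ≤ C) (hKne : K ≠ C)
    (hKn : ∀ g ∈ C, ∀ k ∈ K, g * k * g⁻¹ ∈ K) (hidx : K.relIndex C = p)
    {t : G} (hto : orderOf t = 2) (htC : t ∈ C) (hcent : ∀ g ∈ C, g * t = t * g) : False := by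
  have hpp := hp.1
  have hKc : IsMulCommutative K := comm_of_normal_lt hG hKC hKne
    fun g hg => mem_normalizer_of_conj (hKn g hg)
  haveI hKn' : (K.subgroupOf C).Normal := (Subgroup.normal_subgroupOf_iff_le_normalizer hKC).mpr
    fun g hg => mem_normalizer_of_conj (hKn g hg)
  have hcardQ : Nat.card (C ⧸ K.subgroupOf C) = p := by rw [← Subgroup.index_eq_card]; exact hidx
  haveI : IsCyclic (C ⧸ K.subgroupOf C) := isCyclic_of_prime_card hcardQ
  obtain ⟨q, hq⟩ := exists_prime_orderOf_dvd_card' (G := C ⧸ K.subgroupOf C) p hcardQ.symm.dvd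
  obtain ⟨y', hy', e, he⟩ := Element.exists_pElement_preimage hpp
    (QuotientGroup.mk' (K.subgroupOf C)) (QuotientGroup.mk'_surjective _) (y := q) (k := 1)
    (by rw [hq, pow_one])
  set y : G := (y' : G) with hy
  have hyC : y ∈ C := y'.2
  have hyo : orderOf y = p ^ e := by rw [hy, Subgroup.orderOf_coe]; exact he
  have hdecomp : ∀ g ∈ C, ∃ k ∈ K, ∃ j : ℤ, g = k * y ^ j := by
    intro g hg
    have htop : Subgroup.zpowers q = ⊤ := by
      refine Subgroup.eq_top_of_card_eq _ ?_
      rw [Nat.card_zpowers, hq, hcardQ]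
    obtain ⟨j, hj⟩ := Subgroup.mem_zpowers_iff.mp
      (htop ▸ Subgroup.mem_top ((QuotientGroup.mk' (K.subgroupOf C)) ⟨g, hg⟩))
    rw [← hy', ← map_zpow] at hj
    refine ⟨g * (y ^ j)⁻¹, ?_, j, by rw [inv_mul_cancel_right]⟩
    have : (⟨g, hg⟩ : C) * (y' ^ j)⁻¹ ∈ K.subgroupOf C := by
      rw [← QuotientGroup.eq_one_iff, ← QuotientGroup.mk'_apply, map_mul, map_inv, hj,
        mul_inv_cancel]
    simpa [Subgroup.mem_subgroupOf] using this
  have hpow_fix : ∀ {z : G}, y * z = z * y → ∀ j : ℤ, y ^ j * z = z * y ^ j := fun {z} h j =>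
    ((show Commute y z from h).zpow_left j).eq
  -- odd-order powers and the 2-element `t`
  have hnoT : ∀ k ∈ K, (orderOf k).Coprime 2 → ∀ j : ℤ, t ≠ k * y ^ j := by
    intro k hk hko j hj
    have hyj : (orderOf (y ^ j)).Coprime 2 := by
      refine Nat.Coprime.of_dvd_left (orderOf_dvd_of_mem_zpowers ⟨j, rfl⟩) ?_
      rw [hyo]
      exact ((Nat.coprime_primes hpp Nat.prime_two).mpr hp2).pow_left e
    have hc : Commute t k := by
      exact (hcent k (hKC hk)).symm
    have hc2 : Commute k (y ^ j) := by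
      have : y ^ j = k⁻¹ * t := by rw [hj, inv_mul_cancel_left]
      rw [this]
      exact (Commute.inv_right (Commute.refl k)).mul_right hc.symm
    have h := (hc2.orderOf_mul_dvd_lcm).trans (Nat.lcm_dvd_mul _ _)
    rw [← hj, hto] at h
    exact absurd ((Nat.Coprime.mul_left hko hyj).of_dvd_left h) (by norm_num)
  -- `y` centralises the odd part
  set D := coprimePart 2 K hKc with hD
  have hyDn : ∀ d ∈ D, y * d * y⁻¹ ∈ D := conj_mem_coprimePart (hKn y hyC)
  have hyD : ∀ d ∈ D, y * d = d * y := by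
    by_contra hno
    push Not at hno
    obtain ⟨d, hd, hdy⟩ := hno
    have hnc : ¬ IsMulCommutative (D ⊔ Subgroup.zpowers y : Subgroup G) :=
      not_comm (Subgroup.mem_sup_right (Subgroup.mem_zpowers y)) (Subgroup.mem_sup_left hd) hdy
    have htmem := mem_of_conj hG hnc (x := t) (sup_zpowers_conj_mem (hcent y hyC).symm fun m hm => by
      rw [← hcent m (hKC hm.1), mul_inv_cancel_right]; exact hm)
    obtain ⟨k, hk, j, hj⟩ := exists_mul_zpow (mem_normalizer_of_conj hyDn) htmem
    exact hnoT k hk.1 hk.2 j hj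
  -- `y` does not centralise the 2-part
  set T := twoPart K hKc with hT
  have hyTn : ∀ a ∈ T, y * a * y⁻¹ ∈ T := by
    rintro a ⟨ha, i, hi⟩
    exact ⟨hKn y hyC a ha, i, by
      rw [show y * a * y⁻¹ = MulAut.conj y a from rfl, MulEquiv.orderOf_eq, hi]⟩
  have hTc : IsMulCommutative T := isMulCommutative_iff.mpr fun a b =>
    Subtype.ext (comm_apply hKc a.2.1 b.2.1)
  have hyT : ∃ a ∈ T, y * a * y⁻¹ ≠ a := by
    by_contra hno
    push Not at hno
    apply hCna
    have hyK : ∀ k ∈ K, Commute y k := by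
      intro k hk
      have h1 : Element.pPart 2 k ∈ T :=
        ⟨(Subgroup.zpowers_le.mpr hk) (Element.pPart_mem_zpowers 2 k), _,
          Element.orderOf_pPart_eq_pow Nat.prime_two k⟩
      have h2 : Element.pComplPart 2 k ∈ D :=
        ⟨(Subgroup.zpowers_le.mpr hk) (Element.pComplPart_mem_zpowers 2 k),
          Element.coprime_orderOf_pComplPart Nat.prime_two k⟩
      have e1 : Commute y (Element.pPart 2 k) := mul_inv_eq_iff_eq_mul.mp (hno _ h1)
      have := e1.mul_right (show Commute y (Element.pComplPart 2 k) from hyD _ h2)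
      rwa [Element.pPart_mul_pComplPart] at this
    refine isMulCommutative_iff.mpr fun a b => Subtype.ext ?_
    show (a : G) * b = b * a
    obtain ⟨k, hk, i, ha⟩ := hdecomp a a.2
    obtain ⟨l, hl, j, hb⟩ := hdecomp b b.2
    rw [ha, hb]
    exact (((show Commute k l from comm_apply hKc hk hl).mul_right
        ((hyK k hk).symm.zpow_right j)).mul_left
      (((hyK l hl).zpow_left i).mul_right (Commute.zpow_zpow (Commute.refl y) i j))).eq
  obtain ⟨a, ha, hay⟩ := hyT
  set M := dispSub T hTc y hyTn with hM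
  set m := a⁻¹ * (y * a * y⁻¹) with hm
  have hmM : m ∈ M := ⟨a, ha, rfl⟩
  have hco : ∀ {z : G}, z ∈ T → (orderOf y).Coprime (orderOf z) := by
    rintro z ⟨-, i, hi⟩
    rw [hyo, hi]
    exact (((Nat.coprime_primes hpp Nat.prime_two).mpr hp2).pow_left e).pow_right i
  have hnc : ¬ IsMulCommutative (M ⊔ Subgroup.zpowers y : Subgroup G) := by
    refine not_comm (Subgroup.mem_sup_right (Subgroup.mem_zpowers y))
      (Subgroup.mem_sup_left hmM) fun hfix => hay ?_
    have := eq_one_of_disp_fixed hyTn ha hm.symm hfix (hco (dispSub_le hmM))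
    rw [hm, inv_mul_eq_one] at this
    exact this.symm
  have htmem := mem_of_conj hG hnc (x := t) (sup_zpowers_conj_mem (hcent y hyC).symm fun m' hm' => by
    rw [← hcent m' (hKC (dispSub_le hm').1), mul_inv_cancel_right]; exact hm')
  obtain ⟨m', hm', j, hj⟩ := exists_mul_zpow
    (mem_normalizer_of_conj (conj_mem_dispSub rfl hyTn)) htmem
  have hfix : y * m' = m' * y := by
    have h1 : Commute y t := hcent y hyC
    have h2 : m' = t * (y ^ j)⁻¹ := eq_mul_inv_of_mul_eq hj.symm
    rw [h2]
    exact (h1.mul_right ((Commute.zpow_right (Commute.refl y) j).inv_right)).eq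
  obtain ⟨a', ha', hm'eq⟩ := id hm'
  have := eq_one_of_disp_fixed hyTn ha' hm'eq hfix (hco (dispSub_le hm'))
  rw [this] at hj
  exact hnoT 1 (one_mem K) (by simp) j hj

/-- Centralizers of involutions are abelian. -/
theorem centralizer_involution_comm (hG : SN G) (hna : ¬ IsMulCommutative G)
    (heven : 2 ∣ Nat.card G) {t : G} (ht : orderOf t = 2) :
    IsMulCommutative (Subgroup.centralizer ({t} : Set G)) := by
  haveI : Fact (Nat.Prime 2) := ⟨Nat.prime_two⟩
  by_contra hC
  set C := Subgroup.centralizer ({t} : Set G) with hCdef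
  have hcent : ∀ g ∈ C, g * t = t * g := fun g hg => Subgroup.mem_centralizer_singleton_iff.mp hg
  have htC : t ∈ C := Subgroup.mem_centralizer_singleton_iff.mpr rfl
  obtain ⟨S, htS⟩ := Element.exists_sylow_mem (p := 2) (k := 1) (g := t) (by rw [ht, pow_one])
  have hSc := sylow_two_comm hG hna heven S
  have hSC : (S : Subgroup G) ≤ C := fun s hs =>
    Subgroup.mem_centralizer_singleton_iff.mpr (comm_apply hSc hs htS)
  have hnperf : commutator C ≠ ⊤ := by
    intro h
    refine not_mem_commutator_of_central (S.subtype hSC) ?_ (t := (⟨t, htC⟩ : C)) ?_ ?_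
      (h ▸ Subgroup.mem_top _)
    · exact isMulCommutative_iff.mpr fun a b =>
        Subtype.ext (Subtype.ext (comm_apply hSc a.2 b.2))
    · exact Subgroup.mem_center_iff.mpr fun g => Subtype.ext (hcent g g.2)
    · rw [Subgroup.orderOf_mk]; exact ht
  obtain ⟨M, hM, hcM⟩ := (eq_top_or_exists_le_coatom (commutator C)).resolve_left hnperf
  haveI : M.Normal := PGroup.normal_of_commutator_le hcM
  haveI : IsSimpleGroup (C ⧸ M) := isSimpleGroup_quotient hM
  have hQc : IsMulCommutative (C ⧸ M) := isMulCommutative_iff.mpr fun a b => by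
    obtain ⟨x, rfl⟩ := QuotientGroup.mk'_surjective M a
    obtain ⟨z, rfl⟩ := QuotientGroup.mk'_surjective M b
    rw [← commutatorElement_eq_one_iff_mul_comm, ← map_commutatorElement, QuotientGroup.mk'_apply,
      QuotientGroup.eq_one_iff]
    exact hcM (Subgroup.commutator_mem_commutator (Subgroup.mem_top _) (Subgroup.mem_top _))
  letI : CommGroup (C ⧸ M) :=
    { (inferInstance : Group (C ⧸ M)) with mul_comm := isMulCommutative_iff.mp hQc }
  have hprime : (Nat.card (C ⧸ M)).Prime := IsSimpleGroup.prime_card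
  set p := Nat.card (C ⧸ M) with hp
  haveI : Fact p.Prime := ⟨hprime⟩
  set K := M.map C.subtype with hK
  have hKC : K ≤ C := Subgroup.map_subtype_le M
  have hKof : K.subgroupOf C = M := by
    rw [hK, Subgroup.subgroupOf, Subgroup.comap_map_eq_self_of_injective C.subtype_injective]
  have hidx : K.relIndex C = p := by
    rw [Subgroup.relIndex, hKof, hp, Subgroup.index_eq_card]
  have hKne : K ≠ C := fun h => by
    rw [h, Subgroup.relIndex_self] at hidx
    exact hprime.one_lt.ne hidx
  have hKn : ∀ g ∈ C, ∀ k ∈ K, g * k * g⁻¹ ∈ K := by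
    rintro g hg _ ⟨k, hk, rfl⟩
    exact ⟨⟨g, hg⟩ * k * ⟨g, hg⟩⁻¹, ‹M.Normal›.conj_mem k hk _, rfl⟩
  rcases eq_or_ne p 2 with h2 | h2
  · exact centralizer_comm_two hG hna heven hC hKC hKne hKn (hidx.trans h2) S hSC
  · exact centralizer_comm_odd hG h2 hC hKC hKne hKn hidx ht htC hcent
where
  isSimpleGroup_quotient {X : Type _} [Group X] {M : Subgroup X} [M.Normal] (hM : IsCoatom M) :
      IsSimpleGroup (X ⧸ M) := by
    haveI : Nontrivial (X ⧸ M) := QuotientGroup.nontrivial_iff.mpr hM.1
    refine ⟨fun H _ => ?_⟩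
    have hle : M ≤ H.comap (QuotientGroup.mk' M) := fun x hx => by
      rw [Subgroup.mem_comap, QuotientGroup.mk'_apply, (QuotientGroup.eq_one_iff x).mpr hx]
      exact one_mem H
    have hmap := Subgroup.map_comap_eq_self_of_surjective (QuotientGroup.mk'_surjective M) H
    rcases eq_or_lt_of_le hle with h | h
    · left
      rw [← hmap, ← h, QuotientGroup.map_mk'_self]
    · right
      rw [← hmap, hM.2 _ h, Subgroup.map_top_of_surjective _ (QuotientGroup.mk'_surjective M)]

end Cfsg.Agent.FGS75.SelfNorm
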