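import Cfsg.Agent.FGS75.SelfNorm.Structure
import Cfsg.Agent.RankOne.Inverted
import Cfsg.Agent.TwoFusion.SEBasic

/-!
Each coset of `N` other than `N` contains exactly `p` involutions; `N` is a Frobenius group with
kernel `A`, the centralizers of the non-identity elements of `A` are `A`, and two conjugates of
`N` meet in a subgroup of order `p`.
-/

set_option autoImplicit false

open scoped commutatorElement

namespace Cfsg.Agent.FGS75.SelfNorm

universe u

variable {G : Type u} [Group G] {A N : Subgroup G} {p : ℕ}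

theorem inv_of_involution {u : G} (hu : orderOf u = 2) : u⁻¹ = u :=
  TwoFusion.involution_inv hu

theorem conj_conj {u : G} (hu : orderOf u = 2) (x : G) : u * (u * x * u⁻¹) * u⁻¹ = x := by
  have h := TwoFusion.involution_mul_self hu
  rw [inv_of_involution hu]
  calc u * (u * x * u) * u = (u * u) * x * (u * u) := by group
    _ = x := by rw [h, one_mul, mul_one]

theorem orderOf_conj_eq (g x : G) : orderOf (g * x * g⁻¹) = orderOf x :=
  TwoFusion.orderOf_conj' g x

theorem conj_commute_iff (g a b : G) : (g * a * g⁻¹) * (g * b * g⁻¹) = (g * b * g⁻¹) * (g * a * g⁻¹) ↔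
    a * b = b * a := by
  constructor
  · intro h
    calc a * b = g⁻¹ * ((g * a * g⁻¹) * (g * b * g⁻¹)) * g := by group
      _ = g⁻¹ * ((g * b * g⁻¹) * (g * a * g⁻¹)) * g := by rw [h]
      _ = b * a := by group
  · intro h
    calc (g * a * g⁻¹) * (g * b * g⁻¹) = g * (a * b) * g⁻¹ := by group
      _ = g * (b * a) * g⁻¹ := by rw [h]
      _ = (g * b * g⁻¹) * (g * a * g⁻¹) := by group

theorem Data.comm (hD : Data A N p) {a b : G} (ha : a ∈ A) (hb : b ∈ A) : a * b = b * a :=
  comm_apply hD.a_comm ha hb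

theorem Data.conj_mem (hD : Data A N p) {n a : G} (hn : n ∈ N) (ha : a ∈ A) : n * a * n⁻¹ ∈ A :=
  (Subgroup.mem_normalizer_iff.mp (hD.n_eq ▸ hn) a).mp ha

theorem Data.normal (hD : Data A N p) : (A.subgroupOf N).Normal :=
  (Subgroup.normal_subgroupOf_iff_le_normalizer hD.a_le).mpr hD.n_eq.le

/-- Elements of `A` with the same centralizer `A` after a conjugation normalise `A`. -/
theorem Data.mem_n_of_cent (hD : Data A N p) {g : G} {x : G}
    (h1 : Subgroup.centralizer ({x} : Set G) = A)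
    (h2 : Subgroup.centralizer ({g * x * g⁻¹} : Set G) = A) : g ∈ N := by
  obtain ⟨t, htA, ht⟩ := hD.exists_inv
  refine hD.mem_n g t htA ht ?_
  rw [← h2, Subgroup.mem_centralizer_singleton_iff, conj_commute_iff]
  exact Subgroup.mem_centralizer_singleton_iff.mp (h1.symm ▸ htA)

/-- Powers: for `k ∈ N` the `p`-th power lies in `A`. -/
theorem Data.pow_mem (hD : Data A N p) {k : G} (hk : k ∈ N) : k ^ p ∈ A := by
  haveI := hD.normal
  have h : ((⟨k, hk⟩ : N) : N ⧸ A.subgroupOf N) ^ p = 1 := by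
    have hc : Nat.card (N ⧸ A.subgroupOf N) = p :=
      (Subgroup.index_eq_card _).symm.trans hD.relIndex
    rw [← hc]; exact pow_card_eq_one'
  rw [← QuotientGroup.mk_pow, QuotientGroup.eq_one_iff] at h
  exact Subgroup.mem_subgroupOf.mp h

variable [Finite G]

/-- An involution inverting a non-trivial element of `A` lies in `N`. -/
theorem Data.eq_one_of_inverted (hG : SN G) (hD : Data A N p) {u x : G} (hu : orderOf u = 2)
    (huN : u ∉ N) (hx : x ∈ A) (hinv : u * x * u⁻¹ = x⁻¹) : x = 1 := by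
  by_contra hx1
  by_cases hx2 : x * x = 1
  · have hxo : orderOf x = 2 := orderOf_eq_prime (by rw [sq]; exact hx2) hx1
    apply huN
    apply hD.a_le
    rw [← hD.cent x hx hxo, Subgroup.mem_centralizer_singleton_iff]
    rw [inv_eq_of_mul_eq_one_right hx2] at hinv
    exact mul_inv_eq_iff_eq_mul.mp hinv
  · set C := Subgroup.centralizer ({x} : Set G) with hC
    have hAC : A ≤ C := fun a ha => Subgroup.mem_centralizer_singleton_iff.mpr (hD.comm ha hx)
    have hun : ∀ c ∈ C, u * c * u⁻¹ ∈ C := by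
      intro c hc
      rw [hC, Subgroup.mem_centralizer_singleton_iff] at hc ⊢
      have h1 : x = u * x⁻¹ * u⁻¹ := by
        rw [← hinv, conj_conj hu]
      rw [h1, conj_commute_iff]
      exact (Commute.inv_right (show Commute c x from hc)).eq
    obtain ⟨t, htA, hto⟩ := hD.exists_inv
    by_cases hCc : IsMulCommutative C
    · have hCA : C = A := by
        refine le_antisymm (fun c hc => ?_) hAC
        rw [← hD.cent t htA hto, Subgroup.mem_centralizer_singleton_iff]
        exact comm_apply hCc hc (hAC htA)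
      exact huN (hD.n_eq ▸ mem_normalizer_of_conj (hCA ▸ hun))
    · have huC := mem_of_conj hG hCc hun
      rw [hC, Subgroup.mem_centralizer_singleton_iff] at huC
      apply hx2
      rw [huC, mul_inv_cancel_right] at hinv
      nth_rewrite 2 [hinv]
      exact mul_inv_cancel x

/-- Two elements of `N` inverted by an involution outside `N` differ modulo `A`. -/
theorem Data.eq_of_inverted (hG : SN G) (hD : Data A N p) {u k a : G} (hu : orderOf u = 2)
    (huN : u ∉ N) (hk : k ∈ N) (ha : a ∈ A) (h1 : u * k * u⁻¹ = k⁻¹)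
    (h2 : u * (k * a) * u⁻¹ = (k * a)⁻¹) : a = 1 := by
  have e : u * a * u⁻¹ = k * a⁻¹ * k⁻¹ := by
    calc u * a * u⁻¹ = (u * k * u⁻¹)⁻¹ * (u * (k * a) * u⁻¹) := by group
      _ = k * a⁻¹ * k⁻¹ := by rw [h1, h2]; group
  have haA : u * a * u⁻¹ ∈ A := e ▸ hD.conj_mem hk (inv_mem ha)
  have hj : a⁻¹ * (u * a * u⁻¹) = 1 := by
    refine hD.eq_one_of_inverted hG hu huN (mul_mem (inv_mem ha) haA) ?_
    calc u * (a⁻¹ * (u * a * u⁻¹)) * u⁻¹ = (u * a * u⁻¹)⁻¹ * (u * (u * a * u⁻¹) * u⁻¹) := by group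
      _ = (u * a * u⁻¹)⁻¹ * a := by rw [conj_conj hu]
      _ = (a⁻¹ * (u * a * u⁻¹))⁻¹ := by group
  have hua : u * a * u⁻¹ = a := (inv_mul_eq_one.mp hj).symm
  rw [hua] at e
  have hk1 : k * a * k⁻¹ = a⁻¹ := by
    calc k * a * k⁻¹ = (k * a⁻¹ * k⁻¹)⁻¹ := by group
      _ = a⁻¹ := by rw [← e]
  have hk2 : Commute (k ^ 2) a := by
    show k ^ 2 * a = a * k ^ 2
    calc k ^ 2 * a = k * (k * a * k⁻¹) * k := by rw [sq]; group
      _ = (k * a⁻¹ * k⁻¹) * k ^ 2 := by rw [hk1, sq]; group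
      _ = a * k ^ 2 := by rw [← e]
  have hkp : Commute (k ^ p) a := hD.comm (hD.pow_mem hk) ha
  obtain ⟨j, hj'⟩ := hD.odd
  have hk3 : Commute k a := by
    have h : k = k ^ p * ((k ^ 2) ^ j)⁻¹ := by
      rw [hj', ← pow_mul, pow_succ', mul_inv_cancel_right]
    rw [h]
    exact hkp.mul_left (hk2.pow_left j).inv_left
  rw [show k * a * k⁻¹ = a by rw [hk3.eq, mul_inv_cancel_right]] at hk1
  by_contra ha1
  have hao : orderOf a = 2 := orderOf_eq_prime
    (by rw [sq]; nth_rewrite 1 [hk1]; exact inv_mul_cancel a) ha1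
  refine huN (hD.a_le ?_)
  rw [← hD.cent a ha hao, Subgroup.mem_centralizer_singleton_iff]
  exact mul_inv_eq_iff_eq_mul.mp hua

/-- The number of involutions. -/
theorem Data.card_involutions (hD : Data A N p) :
    {s : G | orderOf s = 2}.ncard = p * N.index := by
  obtain ⟨t, htA, ht⟩ := hD.exists_inv
  have hset : {s : G | orderOf s = 2} = ConjClasses.carrier (ConjClasses.mk t) := by
    ext s
    rw [Set.mem_setOf_eq, ConjClasses.mem_carrier_iff_mk_eq, ConjClasses.mk_eq_mk_iff_isConj]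
    refine ⟨fun hs => hD.isConj s t hs ht, fun h => ?_⟩
    obtain ⟨g, hg⟩ := isConj_iff.mp h
    rw [← ht, ← hg, orderOf_conj_eq]
  rw [hset, ← Nat.card_coe_set_eq]
  have h1 : Nat.card (ConjClasses.carrier (ConjClasses.mk t)) = A.index := by
    have h2 : MulAction.orbit (ConjAct G) t = ConjClasses.carrier (ConjClasses.mk t) :=
      ConjAct.orbit_eq_carrier_conjClasses t
    rw [← h2, Nat.card_coe_set_eq, ← MulAction.index_stabilizer, ← hD.cent t htA ht]
    exact congrArg Subgroup.index ((ConjAct.stabilizer_eq_centralizer t).trans (by rfl))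
  rw [h1, ← Subgroup.relIndex_mul_index hD.a_le, hD.relIndex]

/-- The involutions in `N`. -/
theorem Data.card_inv_n (hD : Data A N p) : {s : G | s ∈ N ∧ orderOf s = 2}.ncard = p := by
  rw [← hD.card_inv]
  congr 1
  ext s
  exact ⟨fun h => ⟨hD.inv_n s h.1 h.2, h.2⟩, fun h => ⟨hD.a_le h.1, h.2⟩⟩

/-- Every coset other than `N` has exactly `p` involutions. -/
theorem Data.exists_inverted (hG : SN G) (hD : Data A N p) {g : G} (hg : g ∉ N) :
    ∃ u : G, orderOf u = 2 ∧ u ∉ N ∧ g⁻¹ * u ∈ N ∧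
      ∀ n ∈ N, ∃ k ∈ N, u * k * u⁻¹ = k⁻¹ ∧ k⁻¹ * n ∈ A := by
  classical
  haveI : Fintype G := Fintype.ofFinite G
  haveI : Fintype (G ⧸ N) := Fintype.ofFinite _
  haveI := hD.normal
  set U : Finset G := Finset.univ.filter fun s => orderOf s = 2 ∧ s ∉ N with hU
  set Q : Finset (G ⧸ N) := Finset.univ.erase ((1 : G) : G ⧸ N) with hQ
  have hmaps : (U : Set G).MapsTo (QuotientGroup.mk : G → G ⧸ N) Q := by
    intro s hs
    rw [Finset.mem_coe, hU, Finset.mem_filter] at hs
    rw [Finset.mem_coe, hQ, Finset.mem_erase]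
    refine ⟨fun h => hs.2.2 ?_, Finset.mem_univ _⟩
    have := QuotientGroup.eq.mp h
    rwa [mul_one, inv_mem_iff] at this
  -- the map into `N / A` on a fibre
  have hfib : ∀ {u v : G}, orderOf u = 2 → orderOf v = 2 → u⁻¹ * v ∈ N →
      u * (u⁻¹ * v) * u⁻¹ = (u⁻¹ * v)⁻¹ := by
    intro u v hu hv _
    rw [mul_inv_rev, inv_inv, inv_of_involution hv, mul_inv_cancel_left, inv_of_involution hu]
  have hinj : ∀ {u v w : G}, orderOf u = 2 → u ∉ N → orderOf v = 2 → orderOf w = 2 →
      (hv : u⁻¹ * v ∈ N) → (hw : u⁻¹ * w ∈ N) →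
      ((⟨u⁻¹ * v, hv⟩ : N) : N ⧸ A.subgroupOf N) = ((⟨u⁻¹ * w, hw⟩ : N) : N ⧸ A.subgroupOf N) →
      v = w := by
    intro u v w hu huN hv hw hvN hwN h
    have hmem : (u⁻¹ * v)⁻¹ * (u⁻¹ * w) ∈ A := Subgroup.mem_subgroupOf.mp (QuotientGroup.eq.mp h)
    have := hD.eq_of_inverted hG hu huN hvN hmem (hfib hu hv hvN)
      (by rw [mul_inv_cancel_left]; exact hfib hu hw hwN)
    exact mul_left_cancel (inv_mul_eq_one.mp this)
  have hle : ∀ C ∈ Q, (U.filter fun s : G => (QuotientGroup.mk s : G ⧸ N) = C).card ≤ p := by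
    intro C _
    rcases Finset.eq_empty_or_nonempty (U.filter fun s : G => (QuotientGroup.mk s : G ⧸ N) = C) with h | ⟨u, hu⟩
    · rw [h, Finset.card_empty]; exact Nat.zero_le _
    · rw [Finset.mem_filter, hU, Finset.mem_filter] at hu
      obtain ⟨⟨-, hu2, huN⟩, huC⟩ := hu
      have hcard : Fintype.card (N ⧸ A.subgroupOf N) = p := by
        rw [← Nat.card_eq_fintype_card, ← Subgroup.index_eq_card]; exact hD.relIndex
      rw [← hcard, ← Finset.card_univ]
      refine Finset.card_le_card_of_injOn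
        (fun s => if h : u⁻¹ * s ∈ N then ((⟨u⁻¹ * s, h⟩ : N) : N ⧸ A.subgroupOf N) else 1)
        (fun s _ => Finset.mem_univ _) ?_
      intro v hv w hw hvw
      rw [Finset.mem_coe, Finset.mem_filter, Finset.mem_filter] at hv hw
      have hvN : u⁻¹ * v ∈ N := QuotientGroup.eq.mp (huC.trans hv.2.symm)
      have hwN : u⁻¹ * w ∈ N := QuotientGroup.eq.mp (huC.trans hw.2.symm)
      simp only [dif_pos hvN, dif_pos hwN] at hvw
      exact hinj hu2 huN hv.1.2.1 hw.1.2.1 hvN hwN hvw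
  have hsum : U.card = ∑ C ∈ Q, (U.filter fun s : G => (QuotientGroup.mk s : G ⧸ N) = C).card :=
    Finset.card_eq_sum_card_fiberwise hmaps
  have hUcard : U.card = ∑ _C ∈ Q, p := by
    rw [Finset.sum_const, smul_eq_mul, hQ, Finset.card_erase_of_mem (Finset.mem_univ _),
      Finset.card_univ, ← Nat.card_eq_fintype_card, ← Subgroup.index_eq_card]
    have h1 : (U : Set G) = {s : G | orderOf s = 2} \ {s : G | s ∈ N ∧ orderOf s = 2} := by
      ext s
      simp only [hU, Finset.coe_filter, Finset.mem_univ, true_and, Set.mem_setOf_eq, Set.mem_diff]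
      exact ⟨fun h => ⟨h.1, fun h' => h.2 h'.1⟩, fun h => ⟨h.1, fun h' => h.2 ⟨h', h.1⟩⟩⟩
    rw [← Set.ncard_coe_finset, h1, Set.ncard_sdiff (fun s hs => hs.2), hD.card_involutions,
      hD.card_inv_n, Nat.sub_one_mul, mul_comm]
  have heq := (Finset.sum_eq_sum_iff_of_le hle).mp (hsum.symm.trans hUcard)
  have hgQ : (g : G ⧸ N) ∈ Q := by
    rw [hQ, Finset.mem_erase]
    refine ⟨fun h => hg ?_, Finset.mem_univ _⟩
    have := QuotientGroup.eq.mp h
    rwa [mul_one, inv_mem_iff] at this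
  have hcardF := heq _ hgQ
  obtain ⟨u, hu⟩ : (U.filter fun s : G => (QuotientGroup.mk s : G ⧸ N) = (QuotientGroup.mk g : G ⧸ N)).Nonempty := by
    rw [← Finset.card_pos, hcardF]
    exact hD.prime.pos
  obtain ⟨⟨-, hu2, huN⟩, huC⟩ : (u ∈ Finset.univ ∧ orderOf u = 2 ∧ u ∉ N) ∧
      (u : G ⧸ N) = (g : G ⧸ N) := by
    rw [Finset.mem_filter, hU, Finset.mem_filter] at hu
    exact hu
  refine ⟨u, hu2, huN, QuotientGroup.eq.mp huC.symm, fun n hn => ?_⟩
  have hcard : Fintype.card (N ⧸ A.subgroupOf N) = p := by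
    rw [← Nat.card_eq_fintype_card, ← Subgroup.index_eq_card]; exact hD.relIndex
  have hsurj := Finset.surj_on_of_inj_on_of_card_le
    (s := U.filter fun s : G => (QuotientGroup.mk s : G ⧸ N) = (QuotientGroup.mk g : G ⧸ N)) (t := (Finset.univ : Finset (N ⧸ A.subgroupOf N)))
    (fun s hs => ((⟨u⁻¹ * s, QuotientGroup.eq.mp
      (huC.trans (Finset.mem_filter.mp hs).2.symm)⟩ : N) : N ⧸ A.subgroupOf N))
    (fun s _ => Finset.mem_univ _)
    (fun v w hv hw hvw => hinj hu2 huN (Finset.mem_filter.mp (Finset.mem_filter.mp hv).1).2.1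
      (Finset.mem_filter.mp (Finset.mem_filter.mp hw).1).2.1 _ _ hvw)
    (by rw [Finset.card_univ, hcard, hcardF])
  obtain ⟨v, hv, hvn⟩ := hsurj ((⟨n, hn⟩ : N) : N ⧸ A.subgroupOf N) (Finset.mem_univ _)
  have hvN : u⁻¹ * v ∈ N := QuotientGroup.eq.mp (huC.trans (Finset.mem_filter.mp hv).2.symm)
  refine ⟨u⁻¹ * v, hvN, hfib hu2 (Finset.mem_filter.mp (Finset.mem_filter.mp hv).1).2.1 hvN, ?_⟩
  exact Subgroup.mem_subgroupOf.mp (QuotientGroup.eq.mp hvn.symm)

/-- `N` contains an element of order `p` outside `A` inverted by an involution. -/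
theorem Data.exists_k (hG : SN G) (hD : Data A N p) :
    ∃ k u : G, k ∈ N ∧ k ∉ A ∧ orderOf k = p ∧ orderOf u = 2 ∧ u ∉ N ∧ u * k * u⁻¹ = k⁻¹ := by
  obtain ⟨g, hg⟩ : ∃ g, g ∉ N := by
    by_contra h
    push Not at h
    exact hD.n_ne_top (eq_top_iff.mpr fun x _ => h x)
  obtain ⟨u, hu, huN, -, hall⟩ := hD.exists_inverted hG hg
  obtain ⟨n, hn, hnA⟩ : ∃ n ∈ N, n ∉ A := by
    by_contra h
    push Not at h
    have := hD.relIndex
    rw [Subgroup.relIndex_eq_one.mpr h] at this
    exact hD.prime.ne_one this.symm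
  obtain ⟨k, hk, hinv, hkn⟩ := hall n hn
  have hkA : k ∉ A := fun h => hnA (by simpa using mul_mem h hkn)
  haveI : Fact p.Prime := ⟨hD.prime⟩
  have hp1 : k ^ p = 1 := by
    refine hD.eq_one_of_inverted hG hu huN (hD.pow_mem hk) ?_
    rw [← conj_pow, hinv, inv_pow]
  exact ⟨k, u, hk, hkA, orderOf_eq_prime hp1 (fun h => hkA (h ▸ one_mem A)), hu, huN, hinv⟩

theorem Data.exists_pow (hD : Data A N p) {n k : G} (hn : n ∈ N) (hnA : n ∉ A) (hk : k ∈ N) :
    ∃ (j : ℤ) (a : G), a ∈ A ∧ k = n ^ j * a := by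
  haveI := hD.normal
  haveI : Fact p.Prime := ⟨hD.prime⟩
  have hc : Nat.card (N ⧸ A.subgroupOf N) = p := (Subgroup.index_eq_card _).symm.trans hD.relIndex
  have hne : ((⟨n, hn⟩ : N) : N ⧸ A.subgroupOf N) ≠ 1 := fun h =>
    hnA (Subgroup.mem_subgroupOf.mp ((QuotientGroup.eq_one_iff _).mp h))
  have htop := zpowers_eq_top_of_prime_card hc hne
  obtain ⟨j, hj⟩ := Subgroup.mem_zpowers_iff.mp
    (htop ▸ Subgroup.mem_top ((⟨k, hk⟩ : N) : N ⧸ A.subgroupOf N))
  rw [← QuotientGroup.mk_zpow] at hj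
  refine ⟨j, (n ^ j)⁻¹ * k, ?_, by rw [mul_inv_cancel_left]⟩
  have := Subgroup.mem_subgroupOf.mp (QuotientGroup.eq.mp hj)
  simpa using this

/-- `N / A` acts without fixed points on `A`. -/
theorem Data.fpf (hG : SN G) (hD : Data A N p) {n a : G} (hn : n ∈ N) (hnA : n ∉ A) (ha : a ∈ A)
    (hcomm : n * a = a * n) : a = 1 := by
  obtain ⟨k, u, hk, hkA, hko, -, -, -⟩ := hD.exists_k hG
  haveI : Fact p.Prime := ⟨hD.prime⟩
  obtain ⟨j, a', ha', hkeq⟩ := hD.exists_pow hn hnA hk
  have hka : Commute k a := by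
    rw [hkeq]
    exact ((show Commute n a from hcomm).zpow_left j).mul_left (hD.comm ha' ha)
  obtain ⟨t, htA, hto⟩ := hD.exists_inv
  set T := twoPart A hD.a_comm with hT
  have hkn : k ∈ Subgroup.normalizer (T : Set G) := mem_normalizer_of_conj fun x hx => by
    obtain ⟨hxA, i, hi⟩ := hx
    exact ⟨hD.conj_mem hk hxA, i, by rw [orderOf_conj_eq, hi]⟩
  have htT : t ∈ T := ⟨htA, 1, by rw [hto, pow_one]⟩
  have hnc : ¬ IsMulCommutative (T ⊔ Subgroup.zpowers k : Subgroup G) := by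
    refine not_comm (Subgroup.mem_sup_right (Subgroup.mem_zpowers k))
      (Subgroup.mem_sup_left htT) fun h => hkA ?_
    rw [← hD.cent t htA hto, Subgroup.mem_centralizer_singleton_iff]
    exact h
  have hmem := mem_of_conj hG hnc (x := a) (sup_zpowers_conj_mem hka.eq.symm fun m hm => by
    rw [hD.comm ha hm.1, mul_inv_cancel_right]; exact hm)
  obtain ⟨s, hs, i, hsi⟩ := exists_mul_zpow hkn hmem
  have hki : k ^ i = 1 := by
    have hA : k ^ i ∈ A := by
      rw [show k ^ i = s⁻¹ * a by rw [hsi, inv_mul_cancel_left]]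
      exact mul_mem (inv_mem hs.1) ha
    by_contra hne
    apply hkA
    have hcard : Nat.card (Subgroup.zpowers k) = p := by rw [Nat.card_zpowers, hko]
    have hne' : (⟨k ^ i, ⟨i, rfl⟩⟩ : Subgroup.zpowers k) ≠ 1 := fun h =>
      hne (congrArg Subtype.val h)
    obtain ⟨l, hl⟩ := Subgroup.mem_zpowers_iff.mp
      ((zpowers_eq_top_of_prime_card hcard hne') ▸
        Subgroup.mem_top (⟨k, Subgroup.mem_zpowers k⟩ : Subgroup.zpowers k))
    have := congrArg Subtype.val hl
    simp only [Subgroup.coe_zpow] at this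
    rw [← this]
    exact zpow_mem hA l
  rw [hki, mul_one] at hsi
  subst hsi
  obtain ⟨hsA, e, he⟩ := hs
  rcases e with _ | e
  · exact orderOf_eq_one_iff.mp (by rw [he, pow_zero])
  · exfalso
    have hzo : orderOf (a ^ (2 ^ e)) = 2 :=
      orderOf_pow_of_pow_succ he
    apply hkA
    rw [← hD.cent _ (_root_.pow_mem hsA (2 ^ e)) hzo, Subgroup.mem_centralizer_singleton_iff]
    exact (hka.pow_right (2 ^ e)).eq
where
  orderOf_pow_of_pow_succ {a : G} {e : ℕ} (he : orderOf a = 2 ^ (e + 1)) :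
      orderOf (a ^ (2 ^ e)) = 2 := by
    rw [orderOf_pow, he, Nat.gcd_eq_right (pow_dvd_pow 2 (Nat.le_succ e)),
      pow_succ' 2 e, Nat.mul_div_cancel _ (pow_pos (by norm_num) _)]

/-- The centralizer of every non-identity element of `A` is `A`. -/
theorem Data.cent_a [IsSimpleGroup G] (hG : SN G) (hD : Data A N p) (hna : ¬ IsMulCommutative G)
    (heven : 2 ∣ Nat.card G) {x : G} (hx : x ∈ A) (hx1 : x ≠ 1) :
    Subgroup.centralizer ({x} : Set G) = A := by
  haveI : Fact (Nat.Prime 2) := ⟨Nat.prime_two⟩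
  set C := Subgroup.centralizer ({x} : Set G) with hC
  have hAC : A ≤ C := fun a ha => Subgroup.mem_centralizer_singleton_iff.mpr (hD.comm ha hx)
  have hCN : ∀ g ∈ C, g ∈ N → g ∈ A := by
    intro g hg hgN
    by_contra hgA
    exact hx1 (hD.fpf hG hgN hgA hx (Subgroup.mem_centralizer_singleton_iff.mp hg))
  refine le_antisymm ?_ hAC
  obtain ⟨t, htA, hto⟩ := hD.exists_inv
  obtain ⟨S, htS⟩ := Element.exists_sylow_mem (p := 2) (k := 1) (g := t) (by rw [hto, pow_one])
  have hSc := sylow_two_comm hG hna heven S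
  have hSA : (S : Subgroup G) ≤ A := fun s hs => by
    rw [← hD.cent t htA hto, Subgroup.mem_centralizer_singleton_iff]
    exact comm_apply hSc hs htS
  set S' : Sylow 2 C := S.subtype (hSA.trans hAC) with hS'
  have hcompl : Cfsg.HasNormalPComplement 2 C := by
    refine Transfer.hasNormalPComplement_of_normalizer_le_centralizer S' fun g hg => ?_
    have hgS : ∀ s ∈ (S : Subgroup G), (g : G) * s * (g : G)⁻¹ ∈ (S : Subgroup G) := fun s hs =>
      (Subgroup.mem_normalizer_iff.mp hg ⟨s, hAC (hSA hs)⟩).mp hs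
    have hgA : (g : G) ∈ A := hCN _ g.2 (hD.mem_n _ t htA hto (hSA (hgS t htS)))
    exact Subgroup.mem_centralizer_iff.mpr fun s hs => Subtype.ext (hD.comm (hSA hs) hgA)
  obtain ⟨P, K, hKn, hK⟩ := hcompl
  have hKodd : Odd (Nat.card K) := by
    rw [← hK.index_eq_card, Nat.odd_iff, ← Nat.two_dvd_ne_zero]
    exact P.not_dvd_index
  obtain ⟨s, hsA, hso, hst⟩ : ∃ s ∈ A, orderOf s = 2 ∧ s ≠ t := by
    by_contra hno
    push Not at hno
    have h1 : {s : G | s ∈ A ∧ orderOf s = 2} = {t} := by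
      ext s
      refine ⟨fun h => hno s h.1 h.2, fun h => ?_⟩
      rw [Set.mem_singleton_iff] at h
      exact h ▸ ⟨htA, hto⟩
    have := hD.card_inv
    rw [h1, Set.ncard_singleton] at this
    exact hD.prime.ne_one this.symm
  set K' := K.map C.subtype with hK'
  have hnorm : ∀ z ∈ A, orderOf z = 2 → ∀ y ∈ K', z * y * z ∈ K' := by
    rintro z hz hzo _ ⟨y, hy, rfl⟩
    refine ⟨⟨z, hAC hz⟩ * y * ⟨z, hAC hz⟩⁻¹, hKn.conj_mem y hy _, ?_⟩
    show z * (y : G) * z⁻¹ = z * (y : G) * z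
    rw [inv_of_involution hzo]
  have hK'A : K' ≤ A := fun y hy => by
    refine RankOne.mem_of_centralizers_le (t := t) (X := K') (TwoFusion.involution_mul_self hto) ?_
      (hnorm t htA hto) (TwoFusion.involution_mul_self hso) (hD.comm hsA htA)
      (hnorm s hsA hso) A ?_ ?_ ?_ hy
    · rw [hK', Subgroup.card_map_of_injective C.subtype_injective]; exact hKodd
    · intro z _ h
      rw [← hD.cent t htA hto, Subgroup.mem_centralizer_singleton_iff]
      exact h.symm
    · intro z _ h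
      rw [← hD.cent s hsA hso, Subgroup.mem_centralizer_singleton_iff]
      exact h.symm
    · intro z _ h
      have hts : orderOf (t * s) = 2 := orderOf_eq_prime (by
        rw [sq, hD.comm htA hsA]
        calc s * t * (s * t) = s * (t * s) * t := by group
          _ = s * (s * t) * t := by rw [hD.comm htA hsA]
          _ = (s * s) * (t * t) := by group
          _ = 1 := by
            rw [TwoFusion.involution_mul_self hso, TwoFusion.involution_mul_self hto, one_mul])
        (fun h1 => hst (by rw [← inv_of_involution hto]; exact eq_inv_of_mul_eq_one_right h1))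
      rw [← hD.cent _ (mul_mem htA hsA) hts, Subgroup.mem_centralizer_singleton_iff]
      exact h.symm
  refine (Subgroup.eq_of_le_of_card_ge hAC (Nat.le_of_dvd Nat.card_pos ?_)).ge
  have hPS : Nat.card (P : Subgroup C) = Nat.card (S : Subgroup G) := by
    rw [Nat.card_congr (P.equiv S').toEquiv]
    exact Nat.card_congr (Subgroup.subgroupOfEquivOfLe (hSA.trans hAC)).toEquiv
  rw [← hK.card_mul, hPS, ← Subgroup.card_map_of_injective (K := K) C.subtype_injective, ← hK']
  refine Nat.Coprime.mul_dvd_of_dvd_of_dvd ?_ (Subgroup.card_dvd_of_le hK'A)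
    (Subgroup.card_dvd_of_le hSA)
  obtain ⟨e, he⟩ := IsPGroup.iff_card.mp S.2
  rw [he, hK', Subgroup.card_map_of_injective C.subtype_injective]
  exact (Nat.coprime_two_right.mpr hKodd).pow_right e

end Cfsg.Agent.FGS75.SelfNorm
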