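import Cfsg.Agent.FGS75.SelfNorm.Real

/-!
Counting: `|A| = p + 1` and `N` has index `p + 2`.
-/

set_option autoImplicit false

open scoped commutatorElement

namespace Cfsg.Agent.FGS75.SelfNorm

universe u

section Generic

variable {G : Type u} [Group G]

/-- The elements conjugate to a non-identity element of `T`. -/
def conjSet (T : Subgroup G) : Set G := {y | ∃ g z, z ∈ T ∧ z ≠ 1 ∧ g * z * g⁻¹ = y}

theorem card_conjSet [Finite G] (T M : Subgroup G)
    (hti : ∀ g z, z ∈ T → z ≠ 1 → g * z * g⁻¹ ∈ T → g ∈ M)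
    (hM : ∀ m ∈ M, ∀ z ∈ T, m * z * m⁻¹ ∈ T) :
    Nat.card (conjSet T) * Nat.card M = Nat.card G * (Nat.card T - 1) := by
  classical
  haveI : Fintype G := Fintype.ofFinite G
  haveI : Fintype (conjSet T) := Fintype.ofFinite _
  let f : G × {z : T // z ≠ 1} → conjSet T := fun w =>
    ⟨w.1 * (w.2.1 : G) * w.1⁻¹, w.1, w.2.1, w.2.1.2, fun e => w.2.2 (Subtype.ext e), rfl⟩
  have hfib : ∀ y : conjSet T, Nat.card {w // f w = y} = Nat.card M := by
    rintro ⟨y, g₀, z₀, hz₀, hz₀1, rfl⟩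
    refine (Nat.card_congr ?_).symm
    have hne : ∀ m : M, (m : G)⁻¹ * z₀ * m ≠ 1 := fun m e => hz₀1 (by
      calc z₀ = (m : G) * ((m : G)⁻¹ * z₀ * m) * (m : G)⁻¹ := by group
        _ = 1 := by rw [e]; group)
    refine
      { toFun := fun m => ⟨(g₀ * (m : G), ⟨⟨(m : G)⁻¹ * z₀ * m, ?_⟩, fun e =>
            hne m (congrArg Subtype.val e)⟩), Subtype.ext ?_⟩
        invFun := fun w => ⟨g₀⁻¹ * w.1.1, ?_⟩
        left_inv := fun m => Subtype.ext (by simp)
        right_inv := fun w => ?_ }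
    · have := hM _ (inv_mem m.2) z₀ hz₀
      rwa [inv_inv] at this
    · show g₀ * (m : G) * ((m : G)⁻¹ * z₀ * m) * (g₀ * (m : G))⁻¹ = g₀ * z₀ * g₀⁻¹
      group
    · have e : w.1.1 * (w.1.2.1 : G) * w.1.1⁻¹ = g₀ * z₀ * g₀⁻¹ := congrArg Subtype.val w.2
      refine hti _ (w.1.2.1 : G) w.1.2.1.2 (fun e' => w.1.2.2 (Subtype.ext e')) ?_
      have : g₀⁻¹ * w.1.1 * (w.1.2.1 : G) * (g₀⁻¹ * w.1.1)⁻¹ = z₀ := by
        calc g₀⁻¹ * w.1.1 * (w.1.2.1 : G) * (g₀⁻¹ * w.1.1)⁻¹
            = g₀⁻¹ * (w.1.1 * (w.1.2.1 : G) * w.1.1⁻¹) * g₀ := by group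
          _ = z₀ := by rw [e]; group
      rw [this]; exact hz₀
    · refine Subtype.ext (Prod.ext (by simp) (Subtype.ext (Subtype.ext ?_)))
      have e : w.1.1 * (w.1.2.1 : G) * w.1.1⁻¹ = g₀ * z₀ * g₀⁻¹ := congrArg Subtype.val w.2
      show (g₀⁻¹ * w.1.1)⁻¹ * z₀ * (g₀⁻¹ * w.1.1) = (w.1.2.1 : G)
      calc (g₀⁻¹ * w.1.1)⁻¹ * z₀ * (g₀⁻¹ * w.1.1) = w.1.1⁻¹ * (g₀ * z₀ * g₀⁻¹) * w.1.1 := by group
        _ = w.1.1⁻¹ * (w.1.1 * (w.1.2.1 : G) * w.1.1⁻¹) * w.1.1 :=
          congrArg (fun q => w.1.1⁻¹ * q * w.1.1) e.symm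
        _ = (w.1.2.1 : G) := by group
  have h1 : Nat.card (G × {z : T // z ≠ 1}) = ∑ y : conjSet T, Nat.card {w // f w = y} := by
    rw [← Nat.card_sigma]
    exact (Nat.card_congr (Equiv.sigmaFiberEquiv f)).symm
  rw [Finset.sum_congr rfl fun y _ => hfib y, Finset.sum_const, Finset.card_univ, smul_eq_mul,
    ← Nat.card_eq_fintype_card, Nat.card_prod] at h1
  rw [← h1]
  congr 1
  rw [Nat.card_eq_fintype_card, Nat.card_eq_fintype_card, Fintype.card_subtype_compl,
    Fintype.card_subtype_eq]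

theorem mem_cent_conj_iff (g z c : G) :
    c ∈ Subgroup.centralizer ({g * z * g⁻¹} : Set G) ↔
      g⁻¹ * c * g ∈ Subgroup.centralizer ({z} : Set G) := by
  rw [Subgroup.mem_centralizer_singleton_iff, Subgroup.mem_centralizer_singleton_iff,
    ← conj_commute_iff g (g⁻¹ * c * g) z, show g * (g⁻¹ * c * g) * g⁻¹ = c by group]

theorem card_cent_conj (g z : G) :
    Nat.card (Subgroup.centralizer ({g * z * g⁻¹} : Set G)) =
      Nat.card (Subgroup.centralizer ({z} : Set G)) :=
  Nat.card_congr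
    { toFun := fun c => ⟨g⁻¹ * (c : G) * g, (mem_cent_conj_iff g z c).mp c.2⟩
      invFun := fun c => ⟨g * (c : G) * g⁻¹, (mem_cent_conj_iff g z _).mpr
        (by simp [mul_assoc])⟩
      left_inv := fun c => Subtype.ext (by simp [mul_assoc])
      right_inv := fun c => Subtype.ext (by simp [mul_assoc]) }

end Generic

/-- The arithmetic. -/
theorem arith {p a i X : ℕ} (hp : 3 ≤ p) (ha : p + 1 ≤ a) (hX : X = 1 + a * (2 * i + 1))
    (h : 2 * (p * (i + 1)) * (p * (3 * i + 1) + 2) * (X * (a - 1) + 1) ≤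
      p * a * X * (p * (i + 1) + (p * (3 * i + 1) + 2))) : i = 0 ∧ a = p + 1 := by
  obtain ⟨b, rfl⟩ : ∃ b, a = b + 1 := ⟨a - 1, by omega⟩
  rw [Nat.add_sub_cancel] at h
  set n₀ := p * (i + 1) with hn₀
  set n₁ := p * (3 * i + 1) + 2 with hn₁
  rcases Nat.eq_zero_or_pos i with hi | hi
  · subst hi
    refine ⟨rfl, le_antisymm ?_ ha⟩
    simp only [Nat.zero_add, mul_one, Nat.mul_zero] at hn₀ hn₁ hX
    subst hX
    rw [hn₀, hn₁] at h
    have h1 : (p + 2) * (b + 1) ≤ (p + 1) * (b + 2) := by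
      apply Nat.le_of_mul_le_mul_left _ (show 0 < 2 * p * (b + 1) by positivity)
      nlinarith [h]
    nlinarith [h1]
  · exfalso
    have hX1 : 0 < X := by omega
    have h1 : 2 * n₀ * n₁ * b ≤ p * (b + 1) * (n₀ + n₁) := by
      apply Nat.le_of_mul_le_mul_left _ hX1
      nlinarith [h]
    have h2 : p * (b + 1) ≤ b * (p + 1) := by nlinarith
    have h3 : 2 * n₀ * n₁ * b ≤ b * (p + 1) * (n₀ + n₁) :=
      h1.trans (Nat.mul_le_mul_right _ h2)
    have hb : 0 < b := by omega
    have h4 : 2 * n₀ * n₁ ≤ (p + 1) * (n₀ + n₁) := by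
      apply Nat.le_of_mul_le_mul_left _ hb
      nlinarith [h3]
    have h5 : p + 1 < n₀ := by rw [hn₀]; nlinarith
    have h6 : p + 1 < n₁ := by rw [hn₁]; nlinarith
    nlinarith [Nat.mul_lt_mul_of_lt_of_lt h5 h6]

variable {G : Type u} [Group G] [Finite G] [IsSimpleGroup G] {A N : Subgroup G} {p : ℕ}
variable (h : Ctx A N p)
include h

theorem Ctx.card_group : Nat.card G = p * Nat.card A * N.index := by
  rw [← Subgroup.card_mul_index A, ← Subgroup.relIndex_mul_index h.data.a_le, h.data.relIndex]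
  ring

theorem Ctx.card_n : Nat.card N = p * Nat.card A := by
  have h1 := Subgroup.card_mul_index N
  rw [h.card_group] at h1
  exact Nat.eq_of_mul_eq_mul_right (Nat.pos_of_ne_zero Subgroup.index_ne_zero_of_finite) h1

theorem Ctx.succ_le_card : p + 1 ≤ Nat.card A := by
  obtain ⟨t, htA, ht⟩ := h.data.exists_inv
  have h1 : insert (1 : G) {s : G | s ∈ A ∧ orderOf s = 2} ⊆ (A : Set G) := by
    rintro s (rfl | hs)
    · exact one_mem A
    · exact hs.1
  have h2 := Set.ncard_le_ncard h1 (Set.toFinite _)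
  have hnot : (1 : G) ∉ {s : G | s ∈ A ∧ orderOf s = 2} := fun hs => by
    have := hs.2
    rw [orderOf_one] at this
    norm_num at this
  rw [Set.ncard_insert_of_notMem hnot (Set.toFinite _), h.data.card_inv, ← Nat.card_coe_set_eq] at h2
  exact h2

/-- The elements of `N` outside `A`. -/
theorem Ctx.exists_conj_pow {n x : G} (hn : n ∈ N) (hnA : n ∉ A) (hx : x ∈ N) :
    ∃ a ∈ A, ∃ i : ℤ, x ∈ A ∨ a * n ^ i * a⁻¹ = x := by
  classical
  obtain ⟨i, b, hb, hxb⟩ := h.data.exists_pow hn hnA hx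
  by_cases hxA : x ∈ A
  · exact ⟨1, one_mem A, i, Or.inl hxA⟩
  have hiA : n ^ i ∉ A := fun h' => hxA (hxb ▸ mul_mem h' hb)
  have hiN : n ^ i ∈ N := zpow_mem hn i
  -- `a ↦ (n^i)⁻¹ a n^i a⁻¹` is a bijection of `A`
  let f : A → A := fun a => ⟨(n ^ i)⁻¹ * (a : G) * n ^ i * (a : G)⁻¹, by
    have := h.data.conj_mem (inv_mem hiN) a.2
    rw [inv_inv] at this
    exact mul_mem this (inv_mem a.2)⟩
  have hinj : Function.Injective f := by
    intro a a' e
    have e' : (n ^ i)⁻¹ * (a : G) * n ^ i * (a : G)⁻¹ = (n ^ i)⁻¹ * (a' : G) * n ^ i * (a' : G)⁻¹ :=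
      congrArg Subtype.val e
    have hc : n ^ i * ((a : G)⁻¹ * a') = ((a : G)⁻¹ * a') * n ^ i := by
      calc n ^ i * ((a : G)⁻¹ * a')
          = n ^ i * (a : G)⁻¹ * a' := by group
        _ = (a : G)⁻¹ * n ^ i * ((n ^ i)⁻¹ * (a : G) * n ^ i * (a : G)⁻¹) * a' := by group
        _ = (a : G)⁻¹ * n ^ i * ((n ^ i)⁻¹ * (a' : G) * n ^ i * (a' : G)⁻¹) * a' := by rw [e']
        _ = (a : G)⁻¹ * a' * n ^ i := by group
    exact Subtype.ext (inv_mul_eq_one.mp
      (h.data.fpf h.sn hiN hiA (mul_mem (inv_mem a.2) a'.2) hc))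
  obtain ⟨a, ha⟩ := (Finite.injective_iff_surjective.mp hinj) ⟨b, hb⟩
  refine ⟨a, a.2, i, Or.inr ?_⟩
  have ha' : (n ^ i)⁻¹ * (a : G) * n ^ i * (a : G)⁻¹ = b := congrArg Subtype.val ha
  rw [hxb, ← ha']
  group

theorem Ctx.isReal_of_mem {x : G} (hx : x ∈ N) (hxA : x ∉ A) :
    IsReal x ∧ orderOf x = p := by
  obtain ⟨k, u, hk, hkA, hko, hu, huN, hinv⟩ := h.data.exists_k h.sn
  obtain ⟨a, -, i, hi⟩ := h.exists_conj_pow hk hkA hx
  rcases hi with hi | rfl
  · exact absurd hi hxA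
  have hx1 : a * k ^ i * a⁻¹ ≠ 1 := fun e => hxA (e ▸ one_mem A)
  have hxo : orderOf (a * k ^ i * a⁻¹) = p := by
    rw [orderOf_conj_eq]
    have hd : orderOf (k ^ i) ∣ p := hko ▸ orderOf_dvd_of_mem_zpowers ⟨i, rfl⟩
    rcases (Nat.dvd_prime h.data.prime).mp hd with h1 | h1
    · exact absurd (orderOf_eq_one_iff.mp h1) (fun e => hx1 (by rw [e]; group))
    · exact h1
  refine ⟨⟨hx1, hxo ▸ h.data.odd, a * u * a⁻¹, by rw [orderOf_conj_eq, hu], ?_⟩, hxo⟩
  calc a * u * a⁻¹ * (a * k ^ i * a⁻¹) * (a * u * a⁻¹)⁻¹ = a * (u * k * u⁻¹) ^ i * a⁻¹ := by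
        rw [conj_zpow]; group
    _ = (a * k ^ i * a⁻¹)⁻¹ := by rw [hinv, inv_zpow]; group

/-- `x ∈ N \ A` fixes `2|C(x)|/p` cosets of `N`. -/
theorem Ctx.card_fixed {x : G} (hx : x ∈ N) (hxA : x ∉ A) :
    Nat.card {C : G ⧸ N // x • C = C} * p = 2 * Nat.card (Subgroup.centralizer ({x} : Set G)) := by
  classical
  obtain ⟨⟨hx1, hxo, u, hu, hinv⟩, hord⟩ := h.isReal_of_mem hx hxA
  set T := Subgroup.centralizer ({x} : Set G) with hT
  set W := Subgroup.normalizer (T : Set G) with hW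
  obtain ⟨hTc, hTo, hinvT⟩ := h.real_facts hx1 hxo hu hinv
  have hxT : x ∈ T := Subgroup.mem_centralizer_singleton_iff.mpr rfl
  have hTA : ∀ a ∈ A, a ∈ T → a = 1 := fun a ha haT =>
    h.data.fpf h.sn hx hxA ha (Subgroup.mem_centralizer_singleton_iff.mp haT).symm
  have horb : MulAction.orbit W ((1 : G) : G ⧸ N) = {C : G ⧸ N | x • C = C} := by
    ext C
    constructor
    · rintro ⟨w, rfl⟩
      show x • ((w : G) • ((1 : G) : G ⧸ N)) = (w : G) • ((1 : G) : G ⧸ N)
      rw [MulAction.Quotient.smul_mk, smul_eq_mul, mul_one, MulAction.Quotient.smul_mk, smul_eq_mul,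
        QuotientGroup.eq]
      have hTW : T ≤ W := Subgroup.le_normalizer
      have huW : u ∈ W := mem_normalizer_of_conj fun z hz => by rw [hinvT z hz]; exact inv_mem hz
      have hidx : (T.subgroupOf W).index = 2 := by
        have h1 := Subgroup.card_mul_index (T.subgroupOf W)
        rw [Nat.card_congr (Subgroup.subgroupOfEquivOfLe hTW).toEquiv,
          h.real_normalizer hx1 hxo hu hinv, mul_comm 2] at h1
        exact Nat.eq_of_mul_eq_mul_left Nat.card_pos h1
      have huT : u ∉ T := fun hu' => by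
        have := hTo.of_dvd_nat (Subgroup.orderOf_dvd_natCard _ hu')
        rw [hu] at this
        exact absurd this (by decide)
      by_cases hwT : (w : G) ∈ T
      · have e : (x * (w : G))⁻¹ * (w : G) = x⁻¹ := by
          rw [comm_apply hTc hxT hwT]; group
        rw [e]; exact inv_mem hx
      · have h1 := Subgroup.mul_mem_iff_of_index_two hidx (a := w) (b := ⟨u, huW⟩)
        simp only [Subgroup.mem_subgroupOf, Subgroup.coe_mul] at h1
        have hwu : (w : G) * u ∈ T := h1.mpr (iff_of_false hwT huT)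
        have e : (x * (w : G))⁻¹ * (w : G) = x := by
          have h2 := comm_apply hTc (inv_mem hxT) hwu
          calc (x * (w : G))⁻¹ * (w : G) = (w : G)⁻¹ * (x⁻¹ * ((w : G) * u)) * u⁻¹ := by group
            _ = (w : G)⁻¹ * (((w : G) * u) * x⁻¹) * u⁻¹ := by rw [h2]
            _ = (u * x * u⁻¹)⁻¹ := by group
            _ = x := by rw [hinv, inv_inv]
        rw [e]; exact hx
    · intro hC
      induction C using QuotientGroup.induction_on with
      | H g =>
        have hgx : g⁻¹ * x * g ∈ N := by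
          have e : x • ((g : G) : G ⧸ N) = (g : G ⧸ N) := hC
          rw [MulAction.Quotient.smul_mk, smul_eq_mul, QuotientGroup.eq] at e
          have := inv_mem e
          rwa [mul_inv_rev, inv_inv, ← mul_assoc] at this
        have hgA : g⁻¹ * x * g ∉ A := by
          intro h'
          obtain ⟨t, htA, ht⟩ := h.data.exists_inv
          have h1 := h.data.comm htA h'
          have h2 : g * t * g⁻¹ ∈ T := by
            rw [hT, Subgroup.mem_centralizer_singleton_iff]
            calc g * t * g⁻¹ * x = g * (t * (g⁻¹ * x * g)) * g⁻¹ := by group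
              _ = g * ((g⁻¹ * x * g) * t) * g⁻¹ := by rw [h1]
              _ = x * (g * t * g⁻¹) := by group
          have := hTo.of_dvd_nat (Subgroup.orderOf_dvd_natCard _ h2)
          rw [orderOf_conj_eq, ht] at this
          exact absurd this (by decide)
        obtain ⟨a, ha, i, hi⟩ := h.exists_conj_pow hx hxA hgx
        rcases hi with hi | hi
        · exact absurd hi hgA
        -- `g a` normalises `T`
        have hne : x ^ i ≠ 1 := fun e => hgA (by rw [← hi, e]; simpa using one_mem A)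
        have hxi : x ^ i ∈ T := zpow_mem hxT i
        have hcx : Subgroup.centralizer ({x ^ i} : Set G) = T :=
          h.real_cent_eq hx1 hxo hu hinv hxi hne
        have hw : g * a ∈ W := by
          refine mem_normalizer_of_conj fun z hz => ?_
          rw [← hcx] at hz
          have hxe : x = (g * a) * x ^ i * (g * a)⁻¹ := by
            calc x = g * (g⁻¹ * x * g) * g⁻¹ := by group
              _ = (g * a) * x ^ i * (g * a)⁻¹ := by rw [← hi]; group
          rw [hT, Subgroup.mem_centralizer_singleton_iff]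
          calc g * a * z * (g * a)⁻¹ * x
              = g * a * z * (g * a)⁻¹ * ((g * a) * x ^ i * (g * a)⁻¹) := by rw [← hxe]
            _ = g * a * (z * x ^ i) * (g * a)⁻¹ := by group
            _ = g * a * (x ^ i * z) * (g * a)⁻¹ := by
                rw [Subgroup.mem_centralizer_singleton_iff.mp hz]
            _ = (g * a) * x ^ i * (g * a)⁻¹ * (g * a * z * (g * a)⁻¹) := by group
            _ = x * (g * a * z * (g * a)⁻¹) := by rw [← hxe]
        refine ⟨⟨g * a, hw⟩, ?_⟩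
        show (g * a) • ((1 : G) : G ⧸ N) = (g : G ⧸ N)
        rw [MulAction.Quotient.smul_mk, smul_eq_mul, mul_one, QuotientGroup.eq]
        simpa using inv_mem (h.data.a_le ha)
  -- the stabiliser has order `p`
  have hstab : Nat.card (MulAction.stabilizer W ((1 : G) : G ⧸ N)) = p := by
    haveI := h.data.normal
    have hN : ∀ w : MulAction.stabilizer W ((1 : G) : G ⧸ N), ((w : W) : G) ∈ N := fun w => by
      have e : ((w : W) : G) • ((1 : G) : G ⧸ N) = ((1 : G) : G ⧸ N) := w.2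
      rw [MulAction.Quotient.smul_mk, smul_eq_mul, mul_one, QuotientGroup.eq, mul_one,
        inv_mem_iff] at e
      exact e
    refine le_antisymm ?_ ?_
    · refine (Nat.card_le_card_of_injective
        (fun w : MulAction.stabilizer W ((1 : G) : G ⧸ N) =>
          (((⟨((w : W) : G), hN w⟩ : N)) : N ⧸ A.subgroupOf N)) ?_).trans
          (le_of_eq ((Subgroup.index_eq_card _).symm.trans h.data.relIndex))
      intro v w e
      have hmem : ((v : W) : G)⁻¹ * ((w : W) : G) ∈ A :=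
        Subgroup.mem_subgroupOf.mp (QuotientGroup.eq.mp e)
      set b := ((v : W) : G)⁻¹ * ((w : W) : G) with hb
      have hbW : b ∈ W := mul_mem (inv_mem (v : W).2) (w : W).2
      have hcomm : x⁻¹ * (b * x * b⁻¹) ∈ T :=
        mul_mem (inv_mem hxT) ((Subgroup.mem_normalizer_iff.mp hbW x).mp hxT)
      have hcA : x⁻¹ * (b * x * b⁻¹) ∈ A := by
        rw [show x⁻¹ * (b * x * b⁻¹) = (x⁻¹ * b * x⁻¹⁻¹) * b⁻¹ by group]
        exact mul_mem (h.data.conj_mem (inv_mem hx) hmem) (inv_mem hmem)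
      have hb1 : b = 1 := h.data.fpf h.sn hx hxA hmem (by
        have e1 := inv_mul_eq_one.mp (hTA _ hcA hcomm)
        calc x * b = (b * x * b⁻¹) * b := by rw [← e1]
          _ = b * x := by group)
      exact Subtype.ext (Subtype.ext (inv_mul_eq_one.mp hb1))
    · have hxW : x ∈ W := Subgroup.le_normalizer hxT
      have hxs : (⟨x, hxW⟩ : W) ∈ MulAction.stabilizer W ((1 : G) : G ⧸ N) := by
        show x • ((1 : G) : G ⧸ N) = _
        rw [MulAction.Quotient.smul_mk, smul_eq_mul, mul_one, QuotientGroup.eq, mul_one]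
        exact inv_mem hx
      have := Subgroup.orderOf_dvd_natCard _ hxs
      rw [Subgroup.orderOf_mk, hord] at this
      exact Nat.le_of_dvd Nat.card_pos this
  have h1 := MulAction.index_stabilizer W ((1 : G) : G ⧸ N)
  have h2 := Subgroup.card_mul_index (MulAction.stabilizer W ((1 : G) : G ⧸ N))
  rw [hstab, h1, horb, ← Nat.card_coe_set_eq] at h2
  rw [mul_comm]
  exact h2.trans (h.real_normalizer hx1 hxo hu hinv)

end Cfsg.Agent.FGS75.SelfNorm
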