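import Cfsg.Agent.FGS75.SelfNorm.Frobenius

/-!
Intersections of two conjugates of `N`, and the centralizers of the real elements of odd order.
-/

set_option autoImplicit false

open scoped commutatorElement

namespace Cfsg.Agent.FGS75.SelfNorm

universe u

variable {G : Type u} [Group G] [Finite G] [IsSimpleGroup G] {A N : Subgroup G} {p : ℕ}

/-- The hypotheses in force. -/
structure Ctx (A N : Subgroup G) (p : ℕ) : Prop where
  sn : SN G
  na : ¬ IsMulCommutative G
  even : 2 ∣ Nat.card G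
  data : Data A N p

variable (h : Ctx A N p)
include h

theorem Ctx.cent_a {x : G} (hx : x ∈ A) (hx1 : x ≠ 1) :
    Subgroup.centralizer ({x} : Set G) = A := h.data.cent_a h.sn h.na h.even hx hx1

/-- For an involution `u` outside `N` the group `N ⊓ N^u` meets `A` trivially. -/
theorem Ctx.eq_one_of_mem_inter {u a : G} (hu : orderOf u = 2) (huN : u ∉ N) (ha : a ∈ A)
    (hau : u * a * u⁻¹ ∈ N) : a = 1 := by
  by_contra ha1
  have hb1 : u * a * u⁻¹ ≠ 1 := fun e => ha1 (by
    have := congrArg (fun y => u⁻¹ * y * u) e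
    simpa [mul_assoc] using this)
  by_cases hbA : u * a * u⁻¹ ∈ A
  · exact huN (h.data.mem_n_of_cent (h.cent_a ha ha1) (h.cent_a hbA hb1))
  · -- `[b⁻¹, a]` lies in both `A` and `A^u`
    set b := u * a * u⁻¹ with hb
    have hc1 : b⁻¹ * (a * b * a⁻¹) = (b⁻¹ * a * b) * a⁻¹ := by group
    have hcA : b⁻¹ * (a * b * a⁻¹) ∈ A := by
      rw [hc1]
      refine mul_mem ?_ (inv_mem ha)
      have := h.data.conj_mem (inv_mem hau) ha
      rwa [inv_inv] at this
    have hcu : u * (b⁻¹ * (a * b * a⁻¹)) * u⁻¹ ∈ A := by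
      have e : u * (b⁻¹ * (a * b * a⁻¹)) * u⁻¹ =
          (u * b * u⁻¹)⁻¹ * ((u * a * u⁻¹) * (u * b * u⁻¹) * (u * a * u⁻¹)⁻¹) := by group
      rw [e, hb, conj_conj hu]
      exact mul_mem (inv_mem ha) (h.data.conj_mem hau ha)
    have hc : b⁻¹ * (a * b * a⁻¹) = 1 := by
      by_contra hne
      refine huN (h.data.mem_n_of_cent (h.cent_a hcA hne) (h.cent_a hcu fun e => hne ?_))
      have := congrArg (fun y => u⁻¹ * y * u) e
      simpa [mul_assoc] using this
    refine hbA ?_
    rw [← h.cent_a ha ha1, Subgroup.mem_centralizer_singleton_iff]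
    calc b * a = (a * b * a⁻¹) * a := by rw [← inv_mul_eq_one.mp hc]
      _ = a * b := by group

/-- Two conjugates of `N` meet in a subgroup of order `p` disjoint from `A`. -/
theorem Ctx.inter {g : G} (hg : g ∉ N) :
    Nat.card ↥(N ⊓ N.map (MulAut.conj g).toMonoidHom) = p ∧
      ∀ x ∈ N ⊓ N.map (MulAut.conj g).toMonoidHom, x ∈ A → x = 1 := by
  classical
  obtain ⟨u, hu, huN, hgu, hall⟩ := h.data.exists_inverted h.sn hg
  have hmap : ∀ x : G, x ∈ N.map (MulAut.conj g).toMonoidHom ↔ u * x * u⁻¹ ∈ N := by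
    intro x
    constructor
    · rintro ⟨n, hn, rfl⟩
      show u * (g * n * g⁻¹) * u⁻¹ ∈ N
      have e : u * (g * n * g⁻¹) * u⁻¹ = (g⁻¹ * u)⁻¹ * n * (g⁻¹ * u) := by
        rw [mul_inv_rev, inv_inv, inv_of_involution hu]; group
      rw [e]
      exact mul_mem (mul_mem (inv_mem hgu) hn) hgu
    · intro hx
      refine ⟨(g⁻¹ * u) * (u * x * u⁻¹) * (g⁻¹ * u)⁻¹, mul_mem (mul_mem hgu hx) (inv_mem hgu), ?_⟩
      show g * ((g⁻¹ * u) * (u * x * u⁻¹) * (g⁻¹ * u)⁻¹) * g⁻¹ = x
      calc g * ((g⁻¹ * u) * (u * x * u⁻¹) * (g⁻¹ * u)⁻¹) * g⁻¹ = u * (u * x * u⁻¹) * u⁻¹ := by group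
        _ = x := conj_conj hu x
  set L := N ⊓ N.map (MulAut.conj g).toMonoidHom with hL
  have hLA : ∀ x ∈ L, x ∈ A → x = 1 := fun x hx hxA =>
    h.eq_one_of_mem_inter hu huN hxA ((hmap x).mp hx.2)
  refine ⟨le_antisymm ?_ ?_, hLA⟩
  · haveI := h.data.normal
    refine (Nat.card_le_card_of_injective
      (fun x : L => (((⟨(x : G), x.2.1⟩ : N)) : N ⧸ A.subgroupOf N)) ?_).trans
        (le_of_eq ((Subgroup.index_eq_card _).symm.trans h.data.relIndex))
    intro x y hxy
    have hmem : (x : G)⁻¹ * y ∈ A := Subgroup.mem_subgroupOf.mp (QuotientGroup.eq.mp hxy)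
    exact Subtype.ext (inv_mul_eq_one.mp (hLA _ (mul_mem (inv_mem x.2) y.2) hmem))
  · obtain ⟨n, hn, hnA⟩ : ∃ n ∈ N, n ∉ A := by
      by_contra h'
      push Not at h'
      have := h.data.relIndex
      rw [Subgroup.relIndex_eq_one.mpr h'] at this
      exact h.data.prime.ne_one this.symm
    obtain ⟨k, hk, hinv, hkn⟩ := hall n hn
    have hkA : k ∉ A := fun h' => hnA (by simpa using mul_mem h' hkn)
    have hkL : k ∈ L := ⟨hk, (hmap k).mpr (hinv ▸ inv_mem hk)⟩
    haveI : Fact p.Prime := ⟨h.data.prime⟩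
    have hkp : k ^ p = 1 := hLA _ (pow_mem hkL p) (h.data.pow_mem hk)
    have hko : orderOf k = p := orderOf_eq_prime hkp fun h' => hkA (h' ▸ one_mem A)
    exact Nat.le_of_dvd Nat.card_pos (hko ▸ Subgroup.orderOf_dvd_natCard _ hkL)

omit [IsSimpleGroup G] in
/-- Conjugating the centralizer of an involution. -/
theorem Ctx.cent_conj {s : G} (hs : orderOf s = 2) :
    ∃ g : G, ∀ c : G, c ∈ Subgroup.centralizer ({s} : Set G) ↔ g⁻¹ * c * g ∈ A := by
  obtain ⟨t, htA, ht⟩ := h.data.exists_inv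
  obtain ⟨g, rfl⟩ := isConj_iff.mp (h.data.isConj t s ht hs)
  refine ⟨g, fun c => ?_⟩
  rw [← h.data.cent t htA ht, Subgroup.mem_centralizer_singleton_iff,
    Subgroup.mem_centralizer_singleton_iff,
    ← conj_commute_iff g (g⁻¹ * c * g) t, show g * (g⁻¹ * c * g) * g⁻¹ = c by group]

/-- An involution normalizing the centralizer of an involution lies in it. -/
theorem Ctx.mem_cent_of_normalizes {s u : G} (hs : orderOf s = 2) (hu : orderOf u = 2)
    (hn : ∀ c ∈ Subgroup.centralizer ({s} : Set G), u * c * u⁻¹ ∈ Subgroup.centralizer ({s} : Set G)) :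
    u ∈ Subgroup.centralizer ({s} : Set G) := by
  obtain ⟨g, hg⟩ := h.cent_conj hs
  rw [hg]
  refine h.data.inv_n _ ?_ ?_
  · rw [h.data.n_eq]
    refine mem_normalizer_of_conj fun a ha => ?_
    have := (hg _).mp (hn (g * a * g⁻¹) ((hg _).mpr (by
      rwa [show g⁻¹ * (g * a * g⁻¹) * g = a by group])))
    rwa [show g⁻¹ * u * g * a * (g⁻¹ * u * g)⁻¹ = g⁻¹ * (u * (g * a * g⁻¹) * u⁻¹) * g by group]
  · have e : g⁻¹ * u * g = g⁻¹ * u * g⁻¹⁻¹ := by rw [inv_inv]
    rw [e, orderOf_conj_eq, hu]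

/-- The centralizer of an element `z ≠ 1` commuting with an involution `v` is that of `v`. -/
theorem Ctx.cent_of_commute {v z : G} (hv : orderOf v = 2) (hz1 : z ≠ 1) (hvz : z * v = v * z) :
    ∀ c : G, c * z = z * c → c * v = v * c := by
  intro c hc
  obtain ⟨g, hg⟩ := h.cent_conj hv
  have hz : g⁻¹ * z * g ∈ A := (hg z).mp (Subgroup.mem_centralizer_singleton_iff.mpr hvz)
  have hz1' : g⁻¹ * z * g ≠ 1 := fun e => hz1 (by
    have := congrArg (fun y => g * y * g⁻¹) e
    simpa [mul_assoc] using this)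
  have : g⁻¹ * c * g ∈ A := by
    rw [← h.cent_a hz hz1', Subgroup.mem_centralizer_singleton_iff]
    calc g⁻¹ * c * g * (g⁻¹ * z * g) = g⁻¹ * (c * z) * g := by group
      _ = g⁻¹ * (z * c) * g := by rw [hc]
      _ = g⁻¹ * z * g * (g⁻¹ * c * g) := by group
  exact Subgroup.mem_centralizer_singleton_iff.mp ((hg c).mpr this)

omit h in
/-- A real element of odd order, different from 1. -/
def IsReal (x : G) : Prop := x ≠ 1 ∧ Odd (orderOf x) ∧ ∃ u : G, orderOf u = 2 ∧ u * x * u⁻¹ = x⁻¹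

theorem Ctx.real_facts {x u : G} (hx1 : x ≠ 1) (hxo : Odd (orderOf x)) (hu : orderOf u = 2)
    (hinv : u * x * u⁻¹ = x⁻¹) :
    IsMulCommutative (Subgroup.centralizer ({x} : Set G)) ∧
      Odd (Nat.card (Subgroup.centralizer ({x} : Set G))) ∧
      (∀ z ∈ Subgroup.centralizer ({x} : Set G), u * z * u⁻¹ = z⁻¹) := by
  set C := Subgroup.centralizer ({x} : Set G) with hC
  have hxx : ¬ x = x⁻¹ := fun e => hx1 (by
    have h2 : orderOf x ∣ 2 := orderOf_dvd_of_pow_eq_one
      (by rw [sq]; nth_rewrite 2 [e]; exact mul_inv_cancel x)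
    rcases (Nat.dvd_prime Nat.prime_two).mp h2 with h1 | h1
    · exact orderOf_eq_one_iff.mp h1
    · rw [h1] at hxo; exact absurd hxo (by decide))
  have hun : ∀ c ∈ C, u * c * u⁻¹ ∈ C := by
    intro c hc
    rw [hC, Subgroup.mem_centralizer_singleton_iff] at hc ⊢
    have h1 : x = u * x⁻¹ * u⁻¹ := by rw [← hinv, conj_conj hu]
    rw [h1, conj_commute_iff]
    exact (Commute.inv_right (show Commute c x from hc)).eq
  have huC : u ∉ C := fun hc => hxx (by
    rw [hC, Subgroup.mem_centralizer_singleton_iff] at hc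
    rwa [hc, mul_inv_cancel_right] at hinv)
  have hCc : IsMulCommutative C := by
    by_contra hCc
    exact huC (mem_of_conj h.sn hCc hun)
  have hxC : x ∈ C := Subgroup.mem_centralizer_singleton_iff.mpr rfl
  have hnoinv : ∀ s ∈ C, orderOf s ≠ 2 := by
    intro s hs hso
    have hCs : ∀ c, c ∈ C ↔ c ∈ Subgroup.centralizer ({s} : Set G) := fun c => by
      refine ⟨fun hc => Subgroup.mem_centralizer_singleton_iff.mpr (comm_apply hCc hc hs),
        fun hc => ?_⟩
      have hsc := centralizer_involution_comm h.sn h.na h.even hso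
      rw [hC, Subgroup.mem_centralizer_singleton_iff]
      exact comm_apply hsc hc
        (Subgroup.mem_centralizer_singleton_iff.mpr (comm_apply hCc hxC hs))
    have := h.mem_cent_of_normalizes hso hu fun c hc => (hCs _).mp (hun c ((hCs c).mpr hc))
    exact huC ((hCs u).mpr this)
  refine ⟨hCc, ?_, ?_⟩
  · rw [← Nat.not_even_iff_odd, even_iff_two_dvd]
    intro h2
    haveI : Fact (Nat.Prime 2) := ⟨Nat.prime_two⟩
    obtain ⟨s, hs⟩ := exists_prime_orderOf_dvd_card' 2 h2
    exact hnoinv s s.2 (by rw [Subgroup.orderOf_coe]; exact hs)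
  · let φ : C →* C :=
      { toFun := fun c => ⟨u * (c : G) * u⁻¹, hun c c.2⟩
        map_one' := Subtype.ext (by simp)
        map_mul' := fun a b => Subtype.ext (by
          show u * ((a : G) * b) * u⁻¹ = u * (a : G) * u⁻¹ * (u * (b : G) * u⁻¹)
          group) }
    have hfp : MonoidHom.FixedPointFree φ := by
      intro z hz
      by_contra hz1
      have hzu : (z : G) * u = u * (z : G) :=
        (mul_inv_eq_iff_eq_mul.mp (congrArg Subtype.val hz)).symm
      have hxu := h.cent_of_commute hu (fun e => hz1 (Subtype.ext e)) hzu x (comm_apply hCc hxC z.2)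
      exact hxx (by rwa [← hxu, mul_inv_cancel_right] at hinv)
    have hinvol : Function.Involutive φ := fun z => Subtype.ext (conj_conj hu z)
    intro z hz
    exact congrArg Subtype.val (congrFun (hfp.coe_eq_inv_of_involutive hinvol) ⟨z, hz⟩)

theorem Ctx.real_cent_eq {x u z : G} (hx1 : x ≠ 1) (hxo : Odd (orderOf x)) (hu : orderOf u = 2)
    (hinv : u * x * u⁻¹ = x⁻¹) (hz : z ∈ Subgroup.centralizer ({x} : Set G)) (hz1 : z ≠ 1) :
    Subgroup.centralizer ({z} : Set G) = Subgroup.centralizer ({x} : Set G) := by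
  obtain ⟨hc, ho, hi⟩ := h.real_facts hx1 hxo hu hinv
  have hzo : Odd (orderOf z) := ho.of_dvd_nat (Subgroup.orderOf_dvd_natCard _ hz)
  obtain ⟨hcz, -, -⟩ := h.real_facts hz1 hzo hu (hi z hz)
  have hxC : x ∈ Subgroup.centralizer ({x} : Set G) := Subgroup.mem_centralizer_singleton_iff.mpr rfl
  refine le_antisymm (fun c hc' => ?_) (fun c hc' => ?_)
  · exact Subgroup.mem_centralizer_singleton_iff.mpr (comm_apply hcz hc'
      (Subgroup.mem_centralizer_singleton_iff.mpr (comm_apply hc hxC hz)))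
  · exact Subgroup.mem_centralizer_singleton_iff.mpr (comm_apply hc hc' hz)

/-- The normalizer of the centralizer of a real element of odd order. -/
theorem Ctx.real_normalizer {x u : G} (hx1 : x ≠ 1) (hxo : Odd (orderOf x)) (hu : orderOf u = 2)
    (hinv : u * x * u⁻¹ = x⁻¹) :
    Nat.card (Subgroup.normalizer (Subgroup.centralizer ({x} : Set G) : Set G)) =
      2 * Nat.card (Subgroup.centralizer ({x} : Set G)) := by
  obtain ⟨hc, ho, hi⟩ := h.real_facts hx1 hxo hu hinv
  set T := Subgroup.centralizer ({x} : Set G) with hT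
  set M := Subgroup.normalizer (T : Set G) with hM
  have hxT : x ∈ T := Subgroup.mem_centralizer_singleton_iff.mpr rfl
  have huM : u ∈ M := mem_normalizer_of_conj fun z hz => by rw [hi z hz]; exact inv_mem hz
  have huT : u ∉ T := fun hu' => by
    have := ho.of_dvd_nat (Subgroup.orderOf_dvd_natCard _ hu')
    rw [hu] at this
    exact absurd this (by decide)
  set D := T ⊔ Subgroup.zpowers u with hD
  have hDM : D ≤ M := sup_le Subgroup.le_normalizer (Subgroup.zpowers_le.mpr huM)
  have hxx : u * x ≠ x * u := fun e => huT (Subgroup.mem_centralizer_singleton_iff.mpr e)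
  have hDna : ¬ IsMulCommutative D :=
    not_comm (Subgroup.mem_sup_right (Subgroup.mem_zpowers u)) (Subgroup.mem_sup_left hxT) hxx
  -- every conjugate of `u` in `M` lies in `u T`
  have hkey : ∀ n ∈ M, n * u * n⁻¹ * u ∈ T := by
    intro n hn
    set v := n * u * n⁻¹ with hv
    have hvz : ∀ z ∈ T, v * z * v⁻¹ = z⁻¹ := by
      intro z hz
      have h1 : n⁻¹ * z * n ∈ T := by
        have := (Subgroup.mem_normalizer_iff.mp (inv_mem hn) z).mp hz
        rwa [inv_inv] at this
      calc v * z * v⁻¹ = n * (u * (n⁻¹ * z * n) * u⁻¹) * n⁻¹ := by rw [hv]; group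
        _ = z⁻¹ := by rw [hi _ h1]; group
    rw [hT, Subgroup.mem_centralizer_singleton_iff]
    calc v * u * x = v * (u * x * u⁻¹) * u := by group
      _ = v * x⁻¹ * v⁻¹ * (v * u) := by rw [hinv]; group
      _ = x * (v * u) := by rw [hvz _ (inv_mem hxT), inv_inv]
  have hMD : M ≤ D := fun n hn => by
    refine mem_of_conj h.sn hDna fun d hd => ?_
    have hle : D.map (MulAut.conj n).toMonoidHom ≤ D := by
      rw [hD, Subgroup.map_sup, MonoidHom.map_zpowers, sup_le_iff, Subgroup.zpowers_le]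
      refine ⟨?_, ?_⟩
      · rintro _ ⟨z, hz, rfl⟩
        exact Subgroup.mem_sup_left ((Subgroup.mem_normalizer_iff.mp hn z).mp hz)
      · show n * u * n⁻¹ ∈ D
        have e : n * u * n⁻¹ = (n * u * n⁻¹ * u) * u⁻¹ := by group
        rw [e]
        exact mul_mem (Subgroup.mem_sup_left (hkey n hn))
          (inv_mem (Subgroup.mem_sup_right (Subgroup.mem_zpowers u)))
    exact hle ⟨d, hd, rfl⟩
  -- the index is two
  have hidx : T.relIndex M = 2 := by
    rw [Subgroup.relIndex, Subgroup.index_eq_two_iff]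
    refine ⟨⟨u, huM⟩, fun b => ?_⟩
    simp only [Subgroup.mem_subgroupOf, Subgroup.coe_mul]
    obtain ⟨z, hz, j, hb⟩ := exists_mul_zpow (M := T) huM (hMD b.2)
    rcases Int.even_or_odd j with ⟨i, rfl⟩ | ⟨i, rfl⟩
    · have : u ^ (i + i) = 1 := by
        rw [← two_mul, zpow_mul, show u ^ (2 : ℤ) = u ^ (2 : ℕ) from zpow_natCast u 2, ← hu,
          pow_orderOf_eq_one, one_zpow]
      rw [this, mul_one] at hb
      rw [hb]
      exact Or.inr ⟨hz, fun h' => huT (by simpa using mul_mem (inv_mem hz) h')⟩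
    · have : u ^ (2 * i + 1) = u := by
        rw [zpow_add_one, zpow_mul, show u ^ (2 : ℤ) = u ^ (2 : ℕ) from zpow_natCast u 2, ← hu,
          pow_orderOf_eq_one, one_zpow, one_mul]
      rw [this] at hb
      rw [hb]
      refine Or.inl ⟨?_, fun h' => huT (by simpa using mul_mem (inv_mem hz) h')⟩
      rw [mul_assoc, TwoFusion.involution_mul_self hu, mul_one]
      exact hz
  rw [← Subgroup.card_mul_index (T.subgroupOf M),
    Nat.card_congr (Subgroup.subgroupOfEquivOfLe (Subgroup.le_normalizer (H := T))).toEquiv]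
  change _ * T.relIndex M = _
  rw [hidx, mul_comm]

end Cfsg.Agent.FGS75.SelfNorm
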