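import Cfsg.Agent.FGS75.SelfNorm.Centralizer
import Cfsg.Agent.TwoFusion.SEBasic
import Cfsg.Prelude.Def_Involutions
import Cfsg.Agent.TwoGroups.UniqueInvolution

/-!
The centralizer `A` of an involution, its normalizer `N`, and the index `p = |N : A|`.
-/

set_option autoImplicit false

open scoped commutatorElement

namespace Cfsg.Agent.FGS75.SelfNorm

universe u

/-- The local data at an involution. -/
structure Data {G : Type u} [Group G] (A N : Subgroup G) (p : ℕ) : Prop where
  a_comm : IsMulCommutative A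
  n_eq : N = Subgroup.normalizer (A : Set G)
  a_le : A ≤ N
  n_ne_top : N ≠ ⊤
  cent : ∀ s ∈ A, orderOf s = 2 → Subgroup.centralizer ({s} : Set G) = A
  mem_n : ∀ g s : G, s ∈ A → orderOf s = 2 → g * s * g⁻¹ ∈ A → g ∈ N
  exists_inv : ∃ t ∈ A, orderOf t = 2
  isConj : ∀ s t : G, orderOf s = 2 → orderOf t = 2 → IsConj s t
  inv_n : ∀ s ∈ N, orderOf s = 2 → s ∈ A
  prime : p.Prime
  odd : Odd p
  three_le : 3 ≤ p
  relIndex : A.relIndex N = p
  card_inv : {s : G | s ∈ A ∧ orderOf s = 2}.ncard = p

variable {G : Type u} [Group G] [Finite G] [IsSimpleGroup G]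

theorem exists_data (hG : SN G) (hna : ¬ IsMulCommutative G) (heven : 2 ∣ Nat.card G)
    (hFT : ∀ (X : Type u) [Group X] [Finite X], Odd (Nat.card X) → Group.IsSolvable X) :
    ∃ (A N : Subgroup G) (p : ℕ), Data A N p := by
  haveI : Fact (Nat.Prime 2) := ⟨Nat.prime_two⟩
  obtain ⟨t, ht⟩ := exists_prime_orderOf_dvd_card' (G := G) 2 heven
  set A := Subgroup.centralizer ({t} : Set G) with hAdef
  have hAc : IsMulCommutative A := centralizer_involution_comm hG hna heven ht
  have htA : t ∈ A := Subgroup.mem_centralizer_singleton_iff.mpr rfl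
  have hcent : ∀ s ∈ A, orderOf s = 2 → Subgroup.centralizer ({s} : Set G) = A := by
    intro s hs hso
    have hle : A ≤ Subgroup.centralizer ({s} : Set G) := fun a ha =>
      Subgroup.mem_centralizer_singleton_iff.mpr (comm_apply hAc ha hs)
    refine le_antisymm (fun c hc => ?_) hle
    exact Subgroup.mem_centralizer_singleton_iff.mpr
      (comm_apply (centralizer_involution_comm hG hna heven hso) hc (hle htA))
  set N := Subgroup.normalizer (A : Set G) with hNdef
  have hAN : A ≤ N := Subgroup.le_normalizer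
  have hmemN : ∀ g s : G, s ∈ A → orderOf s = 2 → g * s * g⁻¹ ∈ A → g ∈ N := by
    intro g s hs hso hgs
    refine mem_normalizer_of_conj fun a ha => ?_
    have hgo : orderOf (g * s * g⁻¹) = 2 := by
      rw [show g * s * g⁻¹ = MulAut.conj g s from rfl, MulEquiv.orderOf_eq, hso]
    rw [← hcent _ hgs hgo, Subgroup.mem_centralizer_singleton_iff]
    have h := comm_apply hAc ha hs
    calc g * a * g⁻¹ * (g * s * g⁻¹) = g * (a * s) * g⁻¹ := by group
      _ = g * (s * a) * g⁻¹ := by rw [h]
      _ = g * s * g⁻¹ * (g * a * g⁻¹) := by group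
  have hNtop : N ≠ ⊤ := by
    intro h
    haveI hn : A.Normal := Subgroup.normalizer_eq_top_iff.mp h
    rcases Subgroup.Normal.eq_bot_or_eq_top hn with h1 | h1
    · rw [h1, Subgroup.mem_bot] at htA
      rw [htA, orderOf_one] at ht
      norm_num at ht
    · refine hna (isMulCommutative_iff.mpr fun a b => ?_)
      exact comm_apply hAc (h1 ▸ Subgroup.mem_top a) (h1 ▸ Subgroup.mem_top b)
  -- a Sylow subgroup inside `A`
  obtain ⟨S, htS⟩ := Element.exists_sylow_mem (p := 2) (k := 1) (g := t) (by rw [ht, pow_one])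
  have hSc := sylow_two_comm hG hna heven S
  have hSA : (S : Subgroup G) ≤ A := fun s hs =>
    Subgroup.mem_centralizer_singleton_iff.mpr (comm_apply hSc hs htS)
  have hodd : ¬ 2 ∣ A.relIndex N := fun h =>
    S.not_dvd_index (h.trans ((Subgroup.relIndex_dvd_index_of_le hAN).trans
      (Subgroup.index_dvd_of_le hSA)))
  haveI hAn : (A.subgroupOf N).Normal :=
    (Subgroup.normal_subgroupOf_iff_le_normalizer hAN).mpr le_rfl
  have hinvN : ∀ s ∈ N, orderOf s = 2 → s ∈ A := by
    intro s hs hso
    have h : (⟨s, hs⟩ : N) ∈ A.subgroupOf N := by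
      refine Element.mem_of_coprime_index ?_
      rw [Subgroup.orderOf_mk, hso, Nat.prime_two.coprime_iff_not_dvd]
      exact hodd
    exact h
  -- strong embedding
  have hSE : Cfsg.IsStronglyEmbedded N := by
    refine ⟨hNtop, even_iff_two_dvd.mpr (ht ▸ Subgroup.orderOf_dvd_natCard N (hAN htA)),
      fun g hg => ?_⟩
    rw [← Nat.not_even_iff_odd, even_iff_two_dvd]
    intro h2
    obtain ⟨x, hx⟩ := exists_prime_orderOf_dvd_card' 2 h2
    rw [← Subgroup.orderOf_coe] at hx
    obtain ⟨hxN, n, hn, hnx⟩ := x.2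
    have hno : orderOf n = 2 := by
      rw [← hx, ← hnx]; exact (MulEquiv.orderOf_eq (MulAut.conj g) n).symm
    refine hg (hmemN g n (hinvN n hn hno) hno ?_)
    have hnx' : g * n * g⁻¹ = (x : G) := hnx
    rw [hnx']
    exact hinvN _ hxN hx
  have houtside : ∃ i : G, orderOf i = 2 ∧ i ∉ N := by
    by_contra hno
    push Not at hno
    set K := Subgroup.closure {i : G | orderOf i = 2} with hK
    have hKn : K.Normal := by
      refine ⟨fun k hk g => ?_⟩
      have hle : K.map (MulAut.conj g).toMonoidHom ≤ K := by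
        rw [hK, MonoidHom.map_closure, Subgroup.closure_le]
        rintro _ ⟨i, hi, rfl⟩
        refine Subgroup.subset_closure ?_
        show orderOf (MulAut.conj g i) = 2
        rw [MulEquiv.orderOf_eq]; exact hi
      exact hle ⟨k, hk, rfl⟩
    rcases Subgroup.Normal.eq_bot_or_eq_top hKn with h | h
    · have h1 : t ∈ K := Subgroup.subset_closure ht
      rw [h, Subgroup.mem_bot] at h1
      rw [h1, orderOf_one] at ht
      norm_num at ht
    · exact hNtop (top_le_iff.mp (h ▸ (Subgroup.closure_le N).mpr fun i hi => hno i hi))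
  obtain ⟨i, hio, hiN⟩ := houtside
  have hconjN : ∀ s, orderOf s = 2 → s ∈ N → IsConj s i := fun s hso hsN => by
    obtain ⟨v, -, hv, -⟩ := TwoFusion.se_exists_swap hSE hso hsN hio hiN
    exact isConj_iff.mpr ⟨v, hv⟩
  have hconjt : ∀ s, orderOf s = 2 → IsConj s t := by
    intro s hso
    by_cases hsN : s ∈ N
    · exact (hconjN s hso hsN).trans (hconjN t ht (hAN htA)).symm
    · obtain ⟨v, -, hv, -⟩ := TwoFusion.se_exists_swap hSE ht (hAN htA) hso hsN
      exact (isConj_iff.mpr ⟨v, hv⟩).symm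
  have hconj : ∀ s s' : G, orderOf s = 2 → orderOf s' = 2 → IsConj s s' := fun s s' h h' =>
    (hconjt s h).trans (hconjt s' h').symm
  -- two involutions in `A`
  obtain ⟨s₂, hs₂A, hs₂o, hs₂t⟩ : ∃ s ∈ A, orderOf s = 2 ∧ s ≠ t := by
    by_contra hno
    push Not at hno
    rcases TwoGroups.cyclic_or_quaternion_of_unique_involution S.2 (fun x y hx hy => Subtype.ext
      ((hno x (hSA x.2) (by rwa [Subgroup.orderOf_coe])).trans
        (hno y (hSA y.2) (by rwa [Subgroup.orderOf_coe])).symm)) with hc | ⟨n, hn, -, ⟨e⟩⟩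
    · exact sylow_two_not_cyclic hna heven S hc
    · have hq : ∀ a b : QuaternionGroup (2 ^ (n - 1)), a * b = b * a := fun a b =>
        e.symm.injective (by rw [map_mul, map_mul]; exact isMulCommutative_iff.mp hSc _ _)
      have h := hq (QuaternionGroup.a 1) (QuaternionGroup.xa 0)
      simp only [QuaternionGroup.a_mul_xa, QuaternionGroup.xa_mul_a, QuaternionGroup.xa.injEq,
        zero_sub, zero_add] at h
      have h2 : ((2 : ℕ) : ZMod (2 * 2 ^ (n - 1))) = 0 := by
        push_cast
        calc (2 : ZMod (2 * 2 ^ (n - 1))) = 1 - (-1) := by norm_num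
          _ = 0 := by rw [h, sub_self]
      have h3 := (ZMod.natCast_eq_zero_iff _ _).mp h2
      have h4 := Nat.le_of_dvd (by norm_num) h3
      have h5 : 2 ^ 1 ≤ 2 ^ (n - 1) := Nat.pow_le_pow_right (by norm_num) (by omega)
      omega
  -- `N / A` is the set of involutions of `A`
  let Inv : Set G := {s : G | s ∈ A ∧ orderOf s = 2}
  have hconjA : ∀ n ∈ N, ∀ s ∈ Inv, n * s * n⁻¹ ∈ Inv := fun n hn s hs =>
    ⟨(Subgroup.mem_normalizer_iff.mp hn s).mp hs.1, by
      rw [show n * s * n⁻¹ = MulAut.conj n s from rfl, MulEquiv.orderOf_eq]; exact hs.2⟩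
  let f : N ⧸ A.subgroupOf N → Inv := Quotient.lift
    (fun n => ⟨(n : G) * t * (n : G)⁻¹, hconjA n n.2 t ⟨htA, ht⟩⟩) (by
      intro a b hab
      have hmem : (a : G)⁻¹ * b ∈ A := Subgroup.mem_subgroupOf.mp (QuotientGroup.leftRel_apply.mp hab)
      refine Subtype.ext ?_
      have h := comm_apply hAc hmem htA
      show (a : G) * t * (a : G)⁻¹ = (b : G) * t * (b : G)⁻¹
      calc (a : G) * t * (a : G)⁻¹
          = (a : G) * (((a : G)⁻¹ * b) * t * ((a : G)⁻¹ * b)⁻¹) * (a : G)⁻¹ := by
            rw [h, mul_inv_cancel_right]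
        _ = (b : G) * t * (b : G)⁻¹ := by group)
  have hf : Function.Bijective f := by
    refine ⟨?_, fun s => ?_⟩
    · intro x y
      induction x using QuotientGroup.induction_on with
      | H a =>
        induction y using QuotientGroup.induction_on with
        | H b =>
          intro hxy
          have e : (a : G) * t * (a : G)⁻¹ = (b : G) * t * (b : G)⁻¹ := congrArg Subtype.val hxy
          refine QuotientGroup.eq.mpr (Subgroup.mem_subgroupOf.mpr ?_)
          rw [Subgroup.coe_mul, Subgroup.coe_inv, hAdef, Subgroup.mem_centralizer_singleton_iff]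
          calc (a : G)⁻¹ * b * t = (a : G)⁻¹ * ((b : G) * t * (b : G)⁻¹) * b := by group
            _ = (a : G)⁻¹ * ((a : G) * t * (a : G)⁻¹) * b := by rw [e]
            _ = t * ((a : G)⁻¹ * b) := by group
    · obtain ⟨g, hg⟩ := isConj_iff.mp (hconj t s ht s.2.2)
      exact ⟨QuotientGroup.mk ⟨g, hmemN g t htA ht (hg ▸ s.2.1)⟩, Subtype.ext hg⟩
  set p := A.relIndex N with hp
  have hcardQ : Nat.card (N ⧸ A.subgroupOf N) = p := (Subgroup.index_eq_card _).symm
  have hcardI : Inv.ncard = p := by
    rw [← Nat.card_coe_set_eq, ← Nat.card_congr (Equiv.ofBijective f hf), hcardQ]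
  have hp2 : 2 ≤ p := by
    rw [← hcardI]
    exact (Set.one_lt_ncard (Set.toFinite _)).mpr ⟨t, ⟨htA, ht⟩, s₂, ⟨hs₂A, hs₂o⟩, hs₂t.symm⟩
  have hpodd : Odd p := Nat.odd_iff.mpr (Nat.two_dvd_ne_zero.mp hodd)
  have hNna : ¬ IsMulCommutative N := fun h => by
    have hle : N ≤ A := fun n hn =>
      Subgroup.mem_centralizer_singleton_iff.mpr (comm_apply h hn (hAN htA))
    have : p = 1 := Subgroup.relIndex_eq_one.mpr hle
    omega
  -- `N / A` is simple, hence of prime order
  haveI : Nontrivial (N ⧸ A.subgroupOf N) := by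
    rw [← Finite.one_lt_card_iff_nontrivial, hcardQ]
    omega
  haveI hsimp : IsSimpleGroup (N ⧸ A.subgroupOf N) := by
    refine ⟨fun M hM => ?_⟩
    set M' := (M.comap (QuotientGroup.mk' (A.subgroupOf N))).map N.subtype with hM'
    have hAM : A ≤ M' := fun a ha => ⟨⟨a, hAN ha⟩, by
      rw [SetLike.mem_coe, Subgroup.mem_comap, QuotientGroup.mk'_apply,
        (QuotientGroup.eq_one_iff _).mpr (Subgroup.mem_subgroupOf.mpr ha)]
      exact one_mem M, rfl⟩
    rcases eq_or_ne M' N with h | h
    · right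
      have htop : M.comap (QuotientGroup.mk' (A.subgroupOf N)) = ⊤ := Subgroup.map_injective
        N.subtype_injective (by rw [← hM', h, ← MonoidHom.range_eq_map, Subgroup.range_subtype])
      rw [← Subgroup.map_comap_eq_self_of_surjective (QuotientGroup.mk'_surjective _) M, htop,
        Subgroup.map_top_of_surjective _ (QuotientGroup.mk'_surjective _)]
    · left
      have hc : IsMulCommutative M' := comm_of_normal_lt hG (Subgroup.map_subtype_le _) h
        fun n hn => mem_normalizer_of_conj fun x hx => by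
          obtain ⟨x', hx', rfl⟩ := hx
          exact ⟨⟨n, hn⟩ * x' * ⟨n, hn⟩⁻¹, (hM.comap _).conj_mem x' hx' _, rfl⟩
      rw [eq_bot_iff]
      intro q hq
      obtain ⟨q', rfl⟩ := QuotientGroup.mk'_surjective _ q
      rw [Subgroup.mem_bot, QuotientGroup.mk'_apply, QuotientGroup.eq_one_iff,
        Subgroup.mem_subgroupOf]
      exact Subgroup.mem_centralizer_singleton_iff.mpr
        (comm_apply hc ⟨q', hq, rfl⟩ (hAM htA))
  haveI hsolv : Group.IsSolvable (N ⧸ A.subgroupOf N) := hFT _ (by rw [hcardQ]; exact hpodd)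
  have hQc : ∀ a b : N ⧸ A.subgroupOf N, a * b = b * a := by
    intro a b
    have h : commutator (N ⧸ A.subgroupOf N) = ⊥ := by
      rcases Subgroup.Normal.eq_bot_or_eq_top
        (inferInstance : (commutator (N ⧸ A.subgroupOf N)).Normal) with h | h
      · exact h
      · exact absurd h (Group.IsSolvable.commutator_lt_top_of_nontrivial _).ne
    rw [← commutatorElement_eq_one_iff_mul_comm, ← Subgroup.mem_bot, ← h]
    exact Subgroup.commutator_mem_commutator (Subgroup.mem_top _) (Subgroup.mem_top _)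
  letI : CommGroup (N ⧸ A.subgroupOf N) :=
    { (inferInstance : Group (N ⧸ A.subgroupOf N)) with mul_comm := hQc }
  have hprime : p.Prime := hcardQ ▸ IsSimpleGroup.prime_card
  refine ⟨A, N, p, ⟨hAc, rfl, hAN, hNtop, hcent, hmemN, ⟨t, htA, ht⟩, hconj, hinvN, hprime, hpodd,
    ?_, hp.symm, hcardI⟩⟩
  rcases hpodd with ⟨j, hj⟩
  omega

end Cfsg.Agent.FGS75.SelfNorm
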